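import Cfsg.Agent.Lib.G2OrdersOdd.Roots
import Cfsg.Agent.Lib.G2Orders.Matrix3

/-! The cubic equation of a `3 × 3` matrix of determinant one in odd characteristic. -/

set_option autoImplicit false

namespace Cfsg.Agent.G2OrdersOdd

open Polynomial Matrix G2Oct

variable {K : Type*} [Field K]

theorem exists_cub {L : Type*} [Field L] [IsAlgClosed L] (t s : L) :
    ∃ a b c : L, t = a + b + c ∧ s = a * b + a * c + b * c ∧ a * b * c = 1 := by
  obtain ⟨a, ha⟩ := IsAlgClosed.exists_root (X ^ 3 + C (-t) * X ^ 2 + C s * X + C (-1) : L[X])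
    (by
      have h : (X ^ 3 + C (-t) * X ^ 2 + C s * X + C (-1) : L[X]).degree = 3 := by compute_degree!
      rw [h]; decide)
  simp [IsRoot] at ha
  obtain ⟨b, hb⟩ := IsAlgClosed.exists_root (X ^ 2 + C (a - t) * X + C (s + a * (a - t)) : L[X])
    (by
      have h : (X ^ 2 + C (a - t) * X + C (s + a * (a - t)) : L[X]).degree = 2 := by compute_degree!
      rw [h]; decide)
  simp [IsRoot] at hb
  refine ⟨a, b, t - a - b, by ring, ?_, ?_⟩
  · linear_combination hb
  · linear_combination ha - a * hb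

/-- The exponents attached to a matrix with invariants fixed or exchanged by `x ↦ x ^ q`. -/
theorem exists_exp_matrix (p : ℕ) [Fact p.Prime] [CharP K p] (hp : 3 ≤ p) {k q : ℕ} (hq : q = p ^ k)
    (A : Matrix (Fin 3) (Fin 3) K) (hdet : A.det = 1) (e : Bool)
    (h : if e then (A.trace ^ q = A.trace ∧ (cof A).trace ^ q = (cof A).trace)
      else (A.trace ^ q = (cof A).trace ∧ (cof A).trace ^ q = A.trace)) :
    ∃ n ∈ expList p q, A ^ n = 1 := by
  let L := AlgebraicClosure K
  haveI : CharP L p := charP_of_injective_algebraMap (algebraMap K L).injective p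
  obtain ⟨ι, hι⟩ : ∃ ι : K →+* L, ι = algebraMap K L := ⟨_, rfl⟩
  obtain ⟨a, b, c, ht, hs, h1⟩ := exists_cub (ι A.trace) (ι (cof A).trace)
  obtain ⟨B, hB⟩ : ∃ B : Matrix (Fin 3) (Fin 3) L, B = A.map ι := ⟨_, rfl⟩
  have hcub : B ^ 3 - (ι A.trace) • B ^ 2 + (ι (cof A).trace) • B - 1 = 0 := by
    have h0 := G2Orders.cayley3 B
    have e1 : B.trace = ι A.trace := by
      rw [hB]; simp [Matrix.trace, Fin.sum_univ_three]
    have e2 : (cof B).trace = ι (cof A).trace := by
      rw [hB]; simp [Matrix.trace, cof, Fin.sum_univ_three, map_sub, map_mul]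
    have e3 : B.det = 1 := by
      rw [hB]
      exact (ι.map_det A).symm.trans (by rw [hdet, map_one])
    rwa [e1, e2, e3, one_smul] at h0
  have hA : aeval B (cub a b c) = 0 := by
    have : cub a b c = X ^ 3 - C (ι A.trace) * X ^ 2 + C (ι (cof A).trace) * X - 1 := by
      rw [cub, ht, hs, ← C_1 (R := L), ← h1]
      simp only [map_add, map_mul]; ring
    rw [this]
    simp only [map_add, map_sub, map_mul, map_pow, aeval_X, aeval_C, map_one, Algebra.algebraMap_eq_smul_one,
      smul_mul_assoc, one_mul]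
    exact hcub
  have hroot : ∀ x, x = a ∨ x = b ∨ x = c ↔ x ^ 3 - ι A.trace * x ^ 2 + ι (cof A).trace * x - 1 = 0 := by
    intro x
    have key : x ^ 3 - ι A.trace * x ^ 2 + ι (cof A).trace * x - 1 = (x - a) * (x - b) * (x - c) := by
      rw [ht, hs, ← h1]; ring
    rw [key, mul_eq_zero, mul_eq_zero, sub_eq_zero, sub_eq_zero, sub_eq_zero]
    tauto
  obtain ⟨τ, hτ⟩ : ∃ τ : L →+* L, ∀ x, τ x = x ^ q :=
    ⟨iterateFrobenius L p k, fun x => by rw [iterateFrobenius_def, hq]⟩
  have hq1 : 1 ≤ q := hq ▸ Nat.one_le_pow _ _ (Fact.out : p.Prime).pos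
  obtain ⟨φ, hφ⟩ : ∃ φ : L → L, ∀ x, φ x = if e then x ^ q else (x ^ q)⁻¹ := ⟨_, fun _ => rfl⟩
  obtain ⟨n, hn, hpow⟩ := exists_exp p hp hq1 (fun x y hxy => τ.injective (by rw [hτ, hτ, hxy])) hA h1 φ e hφ
    fun x hx => by
      rw [hroot] at hx
      have hx0 : x ≠ 0 := fun h0 => by simp [h0] at hx
      have hx1 := congrArg τ hx
      rw [map_sub, map_add, map_sub, map_mul, map_mul, map_pow, map_pow, map_one, map_zero, hτ, hτ, hτ,
        ← map_pow ι, ← map_pow ι] at hx1
      rw [hroot, hφ]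
      cases he : e
      · rw [he] at h
        simp only [Bool.false_eq_true, if_false] at h ⊢
        rw [h.1, h.2] at hx1
        have hy : x ^ q ≠ 0 := pow_ne_zero _ hx0
        apply mul_right_cancel₀ (pow_ne_zero 3 hy)
        rw [zero_mul]
        calc _ = (x ^ q * (x ^ q)⁻¹) ^ 3 - ι A.trace * (x ^ q * (x ^ q)⁻¹) ^ 2 * x ^ q +
              ι (cof A).trace * (x ^ q * (x ^ q)⁻¹) * (x ^ q) ^ 2 - (x ^ q) ^ 3 := by ring
          _ = _ := by rw [mul_inv_cancel₀ hy]; linear_combination -hx1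
      · rw [he] at h
        simp only [if_true] at h ⊢
        rw [h.1, h.2] at hx1
        exact hx1
  refine ⟨n, hn, ?_⟩
  have hinj : Function.Injective (fun M : Matrix (Fin 3) (Fin 3) K => M.map ι) :=
    fun M N hMN => Matrix.ext fun i j => ι.injective (congrFun (congrFun hMN i) j)
  apply hinj
  show (A ^ n).map ι = (1 : Matrix (Fin 3) (Fin 3) K).map ι
  rw [Matrix.map_one ι ι.map_zero ι.map_one, ← hpow, hB]
  exact map_pow (RingHom.mapMatrix ι) A n

end Cfsg.Agent.G2OrdersOdd
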