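import Cfsg.Agent.Lib.G2Orders.Descent
import Cfsg.Agent.Lib.G2OrdersOdd.Matrix3
import Cfsg.Agent.Lib.G2Octonion.Sylow

/-! Quadratic extension and the swap of idempotents, odd characteristic. -/

set_option autoImplicit false

namespace Cfsg.Agent.G2OrdersOdd

open Matrix Cfsg.Lie G2Oct

variable {F : Type*} [Field F] {K : Type*} [Field K]

/-- The quadratic extension with its Frobenius. -/
theorem exists_quad [Fintype F] (p a : ℕ) [Fact p.Prime] [CharP F p] (hp2 : p ≠ 2) (hF : Fintype.card F = p ^ a) :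
    ∃ (K : Type) (_ : Field K) (_ : Fintype K) (_ : CharP K p) (φ : F →+* K) (σ : K →+* K),
      Fintype.card K = (p ^ a) ^ 2 ∧ (∀ y, σ y = y ^ p ^ a) ∧ (∀ y, σ (σ y) = y) ∧
      (∀ x, σ (φ x) = φ x) ∧ (∀ y, σ y = y → ∃ x, φ x = y) ∧
      (∀ c : F, ∃ ρ : K, ρ ^ 2 = φ c ∧ (σ ρ = ρ ∨ σ ρ = -ρ)) ∧
      (∃ ρ : K, ρ ≠ 0 ∧ σ ρ = -ρ) ∧ ∃ z : K, z * σ z = -1 := by
  classical
  let K := FiniteField.Extension F p 2
  letI : Fintype K := Fintype.ofFinite K
  haveI : CharP K p := charP_of_injective_algebraMap (algebraMap F K).injective p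
  have hK : Fintype.card K = (p ^ a) ^ 2 := by
    rw [← Nat.card_eq_fintype_card, FiniteField.natCard_extension, Nat.card_eq_fintype_card, hF]
  let σ : K →+* K := iterateFrobenius K p a
  have hσ : ∀ y, σ y = y ^ p ^ a := fun y => iterateFrobenius_def p a y
  obtain ⟨φ, hφ⟩ : ∃ φ : F →+* K, φ = algebraMap F K := ⟨_, rfl⟩
  obtain ⟨q, hq⟩ : ∃ q, q = p ^ a := ⟨_, rfl⟩
  rw [← hq] at hF hK hσ ⊢
  have hq1 : 1 < q := hF ▸ Fintype.one_lt_card
  have hodd : Odd q := by
    rw [hq]; exact ((Fact.out : p.Prime).odd_of_ne_two hp2).pow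
  have hσσ : ∀ y, σ (σ y) = y := fun y => by
    rw [hσ, hσ, ← pow_mul, ← sq, ← hK, FiniteField.pow_card]
  have hσφ : ∀ x, σ (φ x) = φ x := fun x => by
    rw [hσ, ← map_pow, ← hF, FiniteField.pow_card]
  have hfix : ∀ y, σ y = y → ∃ x, φ x = y := by
    intro y hy
    by_contra hne
    push Not at hne
    have hne0 : (Polynomial.X ^ q - Polynomial.X : Polynomial K) ≠ 0 :=
      FiniteField.X_pow_card_sub_X_ne_zero K hq1
    have hsub : insert y (Finset.univ.image φ) ⊆
        (Polynomial.X ^ q - Polynomial.X : Polynomial K).roots.toFinset := by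
      intro z hz
      rw [Multiset.mem_toFinset, Polynomial.mem_roots hne0]
      simp only [Polynomial.IsRoot, Polynomial.eval_sub, Polynomial.eval_pow, Polynomial.eval_X, sub_eq_zero, ← hσ]
      rcases Finset.mem_insert.1 hz with rfl | hz
      · exact hy
      · obtain ⟨x, -, rfl⟩ := Finset.mem_image.1 hz
        exact hσφ x
    have h1 := (Finset.card_le_card hsub).trans ((Multiset.toFinset_card_le _).trans (Polynomial.card_roots' _))
    rw [Finset.card_insert_of_notMem (fun h => by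
      obtain ⟨x, -, hx⟩ := Finset.mem_image.1 h; exact hne x hx),
      Finset.card_image_of_injective _ φ.injective, Finset.card_univ, hF,
      FiniteField.X_pow_card_sub_X_natDegree_eq K hq1] at h1
    omega
  have hchar : ringChar K ≠ 2 := by
    rw [ringChar.eq K p]; exact hp2
  obtain ⟨m, hm⟩ := hodd
  have hhalf : Fintype.card K / 2 = (q - 1) * (m + 1) := by
    have : q ^ 2 = 2 * ((q - 1) * (m + 1)) + 1 := by
      rw [hm, Nat.add_sub_cancel]; ring
    rw [hK, this]; omega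
  have hroot : ∀ c : F, ∃ ρ : K, ρ ^ 2 = φ c ∧ (σ ρ = ρ ∨ σ ρ = -ρ) := by
    intro c
    obtain ⟨ρ, hρ⟩ : ∃ ρ : K, ρ ^ 2 = φ c := by
      by_cases hc : c = 0
      · exact ⟨0, by simp [hc]⟩
      · have hc' : φ c ≠ 0 := fun h => hc (φ.injective (h.trans φ.map_zero.symm))
        obtain ⟨ρ, hρ⟩ := (FiniteField.isSquare_iff hchar hc').2 (by
          rw [hhalf, pow_mul, ← map_pow, ← hF, FiniteField.pow_card_sub_one_eq_one c hc, map_one, one_pow])
        exact ⟨ρ, by rw [sq]; exact hρ.symm⟩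
    refine ⟨ρ, hρ, sq_eq_sq_iff_eq_or_eq_neg.1 ?_⟩
    rw [← map_pow, hρ, hσφ]
  refine ⟨K, inferInstance, inferInstance, inferInstance, φ, σ, hK, hσ, hσσ, hσφ, hfix, hroot, ?_, ?_⟩
  · obtain ⟨d, hd⟩ := FiniteField.exists_nonsquare (F := F) (by rw [ringChar.eq F p]; exact hp2)
    obtain ⟨ρ, hρ, hρσ⟩ := hroot d
    refine ⟨ρ, fun h0 => ?_, hρσ.resolve_left fun h => ?_⟩
    · rw [h0, zero_pow two_ne_zero] at hρ
      exact hd ⟨0, by rw [mul_zero]; exact φ.injective (by rw [map_zero]; exact hρ.symm)⟩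
    · obtain ⟨r, rfl⟩ := hfix ρ h
      exact hd ⟨r, φ.injective (by rw [map_mul, ← sq]; exact hρ.symm)⟩
  · obtain ⟨g, hg⟩ := IsCyclic.exists_ofOrder_eq_natCard (α := Kˣ)
    rw [Nat.card_units, Nat.card_eq_fintype_card, hK] at hg
    refine ⟨((g ^ m : Kˣ) : K), ?_⟩
    rw [hσ, ← pow_succ', Units.val_pow_eq_pow_val, ← pow_mul]
    have hh : m * (q + 1) * 2 = q ^ 2 - 1 := by
      have : q ^ 2 = m * (q + 1) * 2 + 1 := by rw [hm]; ring
      omega
    have h1 : ((g : K) ^ (m * (q + 1))) ^ 2 = 1 := by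
      rw [← pow_mul, hh, ← Units.val_pow_eq_pow_val, ← hg, pow_orderOf_eq_one, Units.val_one]
    refine (sq_eq_one_iff.1 h1).resolve_left fun h => ?_
    have := orderOf_dvd_of_pow_eq_one (show g ^ (m * (q + 1)) = 1 from Units.ext (by simpa using h))
    rw [hg, ← hh] at this
    have hpos : 0 < m * (q + 1) := Nat.mul_pos (by omega) (by omega)
    have := Nat.le_of_dvd hpos this
    omega

section Swap

/-- The swap of the two idempotents. -/
def wG : GL (Fin 8) K := pairHom (swapW K, swapW K)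

theorem wG_mem : (wG : GL (Fin 8) K) ∈ Lie.G2 K := pair_mem rfl

theorem app_wG (x : Fin 8 → K) : app wG x = mk (x 7) (-zB K x) (-zA K x) (x 0) := by
  rw [wG, app_pairHom, pairFun_apply]
  have hs : ((swapW K : GL (Fin 2) K) : Matrix (Fin 2) (Fin 2) K) = !![0, 1; -1, 0] := rfl
  have hsi : (((swapW K)⁻¹ : GL (Fin 2) K) : Matrix (Fin 2) (Fin 2) K) = !![0, -1; 1, 0] := rfl
  rw [hs, hsi]
  ext i; fin_cases i <;> simp [join, xOf, yOf, mk, Matrix.mul_apply, Fin.sum_univ_two]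

theorem wG_sq : (wG : GL (Fin 8) K) * wG = 1 := by
  refine gl_ext fun x => ?_
  rw [app_mul, app_wG, app_wG, app_one]
  ext i; fin_cases i <;> simp [mk]

theorem wG_idem : app wG (one8 - idem0 : Fin 8 → K) = idem0 := by
  rw [app_wG]
  ext i; fin_cases i <;> simp [idem0, one8, mk]

/-- The cofactor matrix as an element of the group. -/
def cofSL (A : Matrix.SpecialLinearGroup (Fin 3) K) : Matrix.SpecialLinearGroup (Fin 3) K :=
  ⟨cof (A : Matrix (Fin 3) (Fin 3) K), by rw [G2Orders.det_cof, A.2, one_pow]⟩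

theorem wG_slHom (A : Matrix.SpecialLinearGroup (Fin 3) K) : wG * slHom A * wG = slHom (cofSL A) := by
  have hcc : cof (cof (A : Matrix (Fin 3) (Fin 3) K)) = (A : Matrix (Fin 3) (Fin 3) K) := by
    rw [G2Orders.cof_cof, A.2, one_smul]
  refine gl_ext fun x => ?_
  rw [app_mul, app_mul, app_wG, app_slHom, app_slHom, app_wG, slFun_mk, mk_seven, mk_zero]
  show mk _ _ _ _ = slFun (cof (A : Matrix (Fin 3) (Fin 3) K)) x
  conv_rhs => rw [← mk_eta x, slFun_mk, hcc]
  rw [zA_mk, zB_mk, Matrix.mulVec_neg, Matrix.mulVec_neg, neg_neg, neg_neg]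

end Swap

end Cfsg.Agent.G2OrdersOdd
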