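import Cfsg.Agent.Lib.G2OrdersOdd.Upper
import Cfsg.Agent.Lib.G2Orders.Exist

/-! Elements of the listed orders in `G₂(q)`, `q` odd. -/

set_option autoImplicit false

namespace Cfsg.Agent.G2OrdersOdd

open Matrix Cfsg.Lie G2Oct
open G2Orders (gmap gmap_mem gmap_injective app_gmap gmap_slHom gmap_pairHom mem_of_gmap exists_gmap_eq
  orderOf_of_iff pair_pow upT_pow right_inv_unique rep' entry pow_entry)

variable {F : Type*} [Field F] {K : Type*} [Field K]

theorem exists_mul_p (p : ℕ) [Fact p.Prime] [CharP F p] {S : GL (Fin 2) F}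
    (hdet : Matrix.GeneralLinearGroup.det S = 1) (hcop : p.Coprime (orderOf S)) :
    ∃ g ∈ Lie.G2 F, orderOf g = p * orderOf S := by
  have hd : Matrix.GeneralLinearGroup.det (upT (1 : F)) = Matrix.GeneralLinearGroup.det S := by
    rw [hdet]; refine Units.ext ?_
    show (upT (1 : F) : Matrix (Fin 2) (Fin 2) F).det = 1
    simp [upT, Matrix.det_fin_two]
  refine ⟨pairHom (upT 1, S), pair_mem hd, orderOf_of_iff fun k => ?_⟩
  rw [pair_pow]
  constructor
  · intro h
    obtain ⟨z, hz, hb⟩ := pair_ker h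
    rw [upT_pow] at hz
    have e01 := congrFun (congrFun hz 0) 1
    simp at e01
    have h2 : p ∣ k := (CharP.cast_eq_zero_iff F p k).1 e01
    refine hcop.mul_dvd_of_dvd_of_dvd h2 (orderOf_dvd_of_pow_eq_one (Units.ext ?_))
    rw [hb, upT_pow, e01, Units.val_one, Matrix.one_fin_two]
  · intro h
    have h2 : ((k : ℕ) : F) = 0 := (CharP.cast_eq_zero_iff F p k).2 ((dvd_mul_right p _).trans h)
    have hu : (upT (1 : F)) ^ k = 1 := Units.ext (by rw [upT_pow, h2, Units.val_one, Matrix.one_fin_two])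
    rw [hu, orderOf_dvd_iff_pow_eq_one.1 ((dvd_mul_left _ p).trans h),
      show ((1 : GL (Fin 2) F), (1 : GL (Fin 2) F)) = 1 from rfl, map_one]

theorem exists_p_mul [Fintype F] (p : ℕ) [Fact p.Prime] [CharP F p] {a : ℕ} (ha : 1 ≤ a)
    (hF : Fintype.card F = p ^ a) :
    (∃ g ∈ Lie.G2 F, orderOf g = p * (p ^ a + 1)) ∧ ∃ g ∈ Lie.G2 F, orderOf g = p * (p ^ a - 1) := by
  classical
  have hp := (Fact.out : p.Prime)
  obtain ⟨q, hq⟩ : ∃ q, q = p ^ a := ⟨_, rfl⟩
  have hpq : p ∣ q := hq ▸ dvd_pow_self p (by omega)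
  rw [← hq] at hF ⊢
  have h1 : 1 < q := hF ▸ Fintype.one_lt_card
  constructor
  · obtain ⟨C, hC⟩ := G2Orders.exists_gl_two (F := F) p
    rw [hF] at hC
    have hdet : Matrix.GeneralLinearGroup.det (C ^ (q - 1)) = 1 := by
      rw [map_pow, ← hF, ← Fintype.card_units, pow_card_eq_one]
    have hord : orderOf (C ^ (q - 1)) = q + 1 := by
      have h3 : (q + 1) * (q - 1) = q ^ 2 - 1 := by rw [← Nat.sq_sub_sq, one_pow]
      have h4 : q - 1 ≠ 0 := by omega
      rw [orderOf_pow_of_dvd h4 (by rw [hC, ← h3]; exact dvd_mul_left _ _), hC, ← h3,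
        Nat.mul_div_cancel _ (Nat.pos_of_ne_zero h4)]
    obtain ⟨g, hg, hgo⟩ := exists_mul_p p hdet (by
      rw [hord, hp.coprime_iff_not_dvd]
      exact fun h => hp.not_dvd_one ((Nat.dvd_add_iff_right hpq).2 h))
    exact ⟨g, hg, hgo.trans (by rw [hord])⟩
  · obtain ⟨μ, hμ⟩ := IsCyclic.exists_ofOrder_eq_natCard (α := Fˣ)
    rw [Nat.card_units, Nat.card_eq_fintype_card, hF] at hμ
    have hdet : Matrix.GeneralLinearGroup.det (diag2 F (μ, μ⁻¹)) = 1 := by
      refine Units.ext ?_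
      show (diag2 F (μ, μ⁻¹) : Matrix (Fin 2) (Fin 2) F).det = 1
      rw [coe_diag2, Matrix.det_fin_two_of]
      simp
    have hinj : Function.Injective (diag2 F) := by
      intro u v huv
      have h := congrArg (fun w : GL (Fin 2) F => (w : Matrix (Fin 2) (Fin 2) F)) huv
      simp only [coe_diag2] at h
      exact Prod.ext (Units.ext (by simpa using congrFun (congrFun h 0) 0))
        (Units.ext (by simpa using congrFun (congrFun h 1) 1))
    have hord : orderOf (diag2 F (μ, μ⁻¹)) = q - 1 := by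
      rw [orderOf_injective _ hinj, Prod.orderOf, orderOf_inv, Nat.lcm_self, hμ]
    obtain ⟨g, hg, hgo⟩ := exists_mul_p p hdet (by
      rw [hord, hp.coprime_iff_not_dvd]
      exact fun h => hp.not_dvd_one (by simpa [show q - (q - 1) = 1 by omega] using Nat.dvd_sub hpq h))
    exact ⟨g, hg, hgo.trans (by rw [hord])⟩

theorem exists_unitary_three [Fintype K] (p : ℕ) [Fact p.Prime] [CharP K p] {a : ℕ} (ha : 1 ≤ a)
    (hK : Fintype.card K = (p ^ a) ^ 2)
    (σ : K →+* K) (hσ : ∀ y, σ y = y ^ p ^ a) (hσσ : ∀ y, σ (σ y) = y) {z : K} (hz : σ z ≠ z) :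
    ∃ A : Matrix.SpecialLinearGroup (Fin 3) K, orderOf A = (p ^ a) ^ 2 - p ^ a + 1 ∧
      cof (A.1.map σ) = A.1 := by
  classical
  obtain ⟨q, hq⟩ : ∃ q, q = p ^ a := ⟨_, rfl⟩
  rw [← hq] at hK hσ ⊢
  have hq1 : 2 ≤ q := hq ▸ (Fact.out : p.Prime).two_le.trans (Nat.le_self_pow (by omega) p)
  let σe : K ≃+* K := RingEquiv.ofRingHom σ σ (RingHom.ext hσσ) (RingHom.ext hσσ)
  have hσe : orderOf σe = 2 := by
    refine orderOf_eq_prime (RingEquiv.ext fun y => ?_) fun h => hz (RingEquiv.congr_fun h z)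
    rw [sq]; exact hσσ y
  let L := FiniteField.Extension K p 3
  letI : Fintype L := Fintype.ofFinite L
  haveI : CharP L p := charP_of_injective_algebraMap (algebraMap K L).injective p
  have hL : Fintype.card L = q ^ 6 := by
    rw [← Nat.card_eq_fintype_card, FiniteField.natCard_extension, Nat.card_eq_fintype_card, hK, ← pow_mul]
  let τ : L →+* L := iterateFrobenius L p (a * 3)
  have hτ : ∀ y, τ y = y ^ q ^ 3 := fun y => by
    rw [hq, ← pow_mul]; exact iterateFrobenius_def p (a * 3) y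
  have hττ : ∀ y, τ (τ y) = y := fun y => by
    rw [hτ, hτ, ← pow_mul, ← pow_add, ← hL, FiniteField.pow_card]
  have hτl : ∀ c, τ (algebraMap K L c) = algebraMap K L (σe c) := fun c => by
    rw [hτ, ← map_pow, show σe c = c ^ q from hσ c]
    congr 1
    rw [pow_succ, pow_mul, show (c : K) ^ q ^ 2 = c by rw [← hK, FiniteField.pow_card]]
  have htr : ∀ y, Algebra.trace K L (τ y) = σe (Algebra.trace K L y) := fun y =>
    UnitarySpectra.trace_map σe τ hτl y
  obtain ⟨b, hb⟩ := UnitarySpectra.exists_model (n := 3) σe hσe (A := L) (FiniteField.finrank_extension K p 3)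
    τ hττ hτl (Algebra.trace K L) htr
    (fun y hy => (traceForm_nondegenerate K L).1 y fun w => by simpa using hy w)
  obtain ⟨N, hN⟩ : ∃ N, N = q ^ 2 - q + 1 := ⟨_, rfl⟩
  have hqq : q ≤ q ^ 2 := Nat.le_self_pow (by norm_num) q
  have hN1 : (q + 1) * N = q ^ 3 + 1 := by
    obtain ⟨d, hd⟩ := Nat.exists_eq_add_of_le hqq
    rw [hN, hd, Nat.add_sub_cancel_left]
    nlinarith [hd]
  have hN2 : N * (q ^ 2 + q + 1) = q ^ 4 + q ^ 2 + 1 := by
    obtain ⟨d, hd⟩ := Nat.exists_eq_add_of_le hqq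
    rw [hN, hd, Nat.add_sub_cancel_left]
    nlinarith [hd]
  obtain ⟨ζ, hζ⟩ := SympSpectra.exists_field_unit (K := L) (N := N) (by
    refine ⟨(q + 1) * (q ^ 3 - 1), ?_⟩
    rw [Nat.card_eq_fintype_card, hL, ← mul_assoc, mul_comm N, hN1, ← Nat.sq_sub_sq, one_pow, ← pow_mul])
  have hpow : ∀ j, N ∣ j → (ζ : L) ^ j = 1 := fun j hj => by
    rw [← Units.val_pow_eq_pow_val, orderOf_dvd_iff_pow_eq_one.1 (hζ ▸ hj), Units.val_one]
  have hunit : τ (ζ : L) * ζ = 1 := by
    rw [hτ, ← pow_succ]; exact hpow _ ⟨q + 1, by rw [← hN1]; ring⟩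
  obtain ⟨A, hA⟩ : ∃ A : Matrix (Fin 3) (Fin 3) K, A = Algebra.leftMulMatrix b (ζ : L) := ⟨_, rfl⟩
  have hdet : A.det = 1 := by
    rw [hA, ← Algebra.norm_eq_matrix_det]
    apply (algebraMap K L).injective
    rw [FiniteField.algebraMap_norm_eq_pow_sum, map_one, Nat.card_eq_fintype_card, hK,
      FiniteField.finrank_extension]
    refine hpow _ ⟨q ^ 2 + q + 1, ?_⟩
    rw [hN2]
    simp [Finset.sum_range_succ]; ring
  have hua : (A.map σ)ᵀ * A = 1 := by
    have : UnitarySpectra.adj σe A * A = 1 := by rw [hA, hb, ← map_mul, hunit, map_one]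
    exact this
  obtain ⟨S, hS⟩ : ∃ S : Matrix.SpecialLinearGroup (Fin 3) K, S.1 = A := ⟨⟨A, hdet⟩, rfl⟩
  refine ⟨S, ?_, ?_⟩
  · rw [← hN, ← hζ]
    refine orderOf_eq_orderOf_iff.2 fun k => ?_
    have h1 : (S ^ k).1 = Algebra.leftMulMatrix b (((ζ ^ k : Lˣ)) : L) := by
      rw [Units.val_pow_eq_pow_val, map_pow, ← hA, ← hS]
      exact Matrix.SpecialLinearGroup.coe_pow S k
    constructor
    · intro h
      refine Units.ext (Algebra.leftMulMatrix_injective b ?_)
      rw [← h1, h, Units.val_one, map_one]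
      rfl
    · intro h
      refine Subtype.ext (h1.trans ?_)
      rw [h, Units.val_one, map_one]
      rfl
  · rw [hS]
    have h1 : (A.map σ)ᵀ * cof (A.map σ) = 1 := by
      have h2 : (A.map σ).det = 1 := (σ.map_det A).symm.trans (by rw [hdet, map_one])
      rw [← one_smul K (1 : Matrix (Fin 3) (Fin 3) K), ← h2]
      ext i j
      fin_cases i <;> fin_cases j <;> simp [cof, Matrix.mul_apply, Fin.sum_univ_three, Matrix.det_fin_three] <;> ring
    exact (right_inv_unique hua h1).symm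

theorem pair_scalar {z : K} (hz : z ≠ 0) (Z : GL (Fin 2) K) (hZ : (Z : Matrix (Fin 2) (Fin 2) K) = z • 1) :
    pairHom (Z, Z) = 1 := by
  refine gl_ext fun x => ?_
  have hZi : ((Z⁻¹ : GL (Fin 2) K) : Matrix (Fin 2) (Fin 2) K) = z⁻¹ • 1 := by
    have h := Units.inv_mul Z
    rw [hZ, mul_smul_comm, mul_one] at h
    rw [← h, smul_smul, inv_mul_cancel₀ hz, one_smul]
  rw [app_pairHom, app_one, pairFun_apply, hZ, hZi]
  ext i
  fin_cases i <;> simp [join, xOf, yOf, hz]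

theorem exists_singer_minus [Fintype F] (p : ℕ) [Fact p.Prime] [CharP F p] (hp : 3 ≤ p) {a : ℕ} (ha : 1 ≤ a)
    (hF : Fintype.card F = p ^ a) : ∃ g ∈ Lie.G2 F, orderOf g = (p ^ a) ^ 2 - p ^ a + 1 := by
  obtain ⟨K, _, _, _, φ, σ, hK, hσ, hσσ, hσφ, hfix, -, ⟨ρ, hρ0, hρσ⟩, z, hzσ⟩ := exists_quad p a (by omega) hF
  have h2 : (2 : K) ≠ 0 := Ring.two_ne_zero (by rw [ringChar.eq K p]; omega)
  have hz : z ≠ 0 := fun h => by simp [h] at hzσ
  obtain ⟨M, hM⟩ : ∃ M : Matrix (Fin 2) (Fin 2) K, M = !![1, ρ; z⁻¹, -(ρ * z⁻¹)] := ⟨_, rfl⟩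
  have hMd : IsUnit M.det := by
    rw [hM, Matrix.det_fin_two_of, isUnit_iff_ne_zero]
    intro h
    have : (2 : K) * (ρ * z⁻¹) = 0 := by linear_combination -h
    simp [h2, hρ0, hz] at this
  obtain ⟨P, hP⟩ : ∃ P : GL (Fin 2) K, (P : Matrix (Fin 2) (Fin 2) K) = M :=
    ⟨Matrix.nonsingInvUnit M hMd, rfl⟩
  obtain ⟨Z, hZ⟩ : ∃ Z : GL (Fin 2) K, (Z : Matrix (Fin 2) (Fin 2) K) = z • 1 :=
    ⟨Units.map (algebraMap K (Matrix (Fin 2) (Fin 2) K)).toMonoidHom (Units.mk0 z hz),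
      Algebra.algebraMap_eq_smul_one z⟩
  obtain ⟨r, hr⟩ : ∃ r, r = pairHom (P, P) := ⟨_, rfl⟩
  have hrm : r ∈ Lie.G2 K := hr ▸ pair_mem rfl
  have hrσ : gmap σ r = wG * r := by
    have hzi : σ z = -z⁻¹ := by
      apply mul_left_cancel₀ hz
      rw [hzσ, mul_neg, mul_inv_cancel₀ hz]
    have hσP : Matrix.GeneralLinearGroup.map σ P = Z * (swapW K * P) := by
      refine Units.ext ?_
      show (P : Matrix (Fin 2) (Fin 2) K).map σ = _
      rw [Units.val_mul, Units.val_mul, hZ, hP, hM]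
      ext i j
      fin_cases i <;> fin_cases j <;>
        simp [swapW, Matrix.mul_apply, Fin.sum_univ_two, hρσ, hzi, hz] <;> field_simp
    rw [hr, gmap_pairHom, hσP, show ((Z * (swapW K * P), Z * (swapW K * P)) : GL (Fin 2) K × GL (Fin 2) K) =
      (Z, Z) * ((swapW K, swapW K) * (P, P)) from rfl, map_mul, map_mul, pair_scalar hz Z hZ, one_mul, wG]
  obtain ⟨A, hA, hcof⟩ := exists_unitary_three p ha hK σ hσ hσσ (z := ρ) (by
    rw [hρσ]
    intro h
    exact mul_ne_zero h2 hρ0 (by linear_combination -h))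
  obtain ⟨h, hh⟩ : ∃ h, h = r⁻¹ * slHom A * r := ⟨_, rfl⟩
  have hw : (wG : GL (Fin 8) K)⁻¹ = wG := inv_eq_of_mul_eq_one_right wG_sq
  have hfix' : gmap σ h = h := by
    have hc : cofSL (Matrix.SpecialLinearGroup.map σ A) = A := Subtype.ext hcof
    rw [hh, map_mul, map_mul, map_inv, gmap_slHom, hrσ, _root_.mul_inv_rev, hw]
    conv_rhs => rw [← hc, ← wG_slHom]
    group
  obtain ⟨g, hg⟩ := exists_gmap_eq φ σ hfix hfix'
  refine ⟨g, mem_of_gmap φ (hg ▸ hh ▸ mul_mem (mul_mem (inv_mem hrm) (slHom_mem A)) hrm), ?_⟩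
  rw [← orderOf_injective (gmap φ) (gmap_injective φ) g, hg, hh, ← hA,
    ← orderOf_injective slHom slHom_injective A]
  exact SemiconjBy.orderOf_eq r (show r * (r⁻¹ * slHom A * r) = slHom A * r by group)

section Small

open G2Iso

theorem small_data : ∀ j i : Fin 8,
    3 ∣ entry [7, 6] 9 i j - (if i = j then 1 else 0) ∧
    5 ∣ entry [7, 6] 25 i j - (if i = j then 1 else 0) := by decide +kernel

theorem small_data' : (∃ j i : Fin 8, ¬ 3 ∣ entry [7, 6] 3 i j - (if i = j then 1 else 0)) ∧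
    (∃ j i : Fin 8, ¬ 5 ∣ entry [7, 6] 5 i j - (if i = j then 1 else 0)) := by decide +kernel

theorem pow_one_iff (p : ℕ) [CharP F p] (w : List ℕ) (hw : ∀ r ∈ w, r < 12) (k : ℕ) :
    (w.map fun r => gen r (1 : F)).prod ^ k = 1 ↔
      ∀ j i : Fin 8, (p : ℤ) ∣ entry w k i j - (if i = j then 1 else 0) := by
  have hc : ∀ j i : Fin 8, (((entry w k i j - (if i = j then 1 else 0) : ℤ)) : F) =
      app ((w.map fun r => gen r (1 : F)).prod ^ k) (Pi.single j 1) i - app 1 (Pi.single j 1) i := by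
    intro j i
    rw [pow_entry w hw, app_one, Int.cast_sub, Pi.single_apply]
    split <;> simp
  constructor
  · intro h j i
    have := hc j i
    rw [h, sub_self] at this
    exact (CharP.intCast_eq_zero_iff F p _).1 this
  · intro h
    refine gl_ext_single fun j i => sub_eq_zero.1 ?_
    rw [← hc, (CharP.intCast_eq_zero_iff F p _).2 (h j i)]

theorem exists_p_sq (p : ℕ) [Fact p.Prime] [CharP F p] (hp : p = 3 ∨ p = 5) :
    ∃ g ∈ Lie.G2 F, orderOf g = p ^ 2 := by
  have hmem : ∀ w : List ℕ, (w.map fun r => gen r (1 : F)).prod ∈ Lie.G2 F := fun w =>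
    list_prod_mem fun x hx => by
      obtain ⟨r, -, rfl⟩ := List.mem_map.1 hx
      exact gen_mem r 1
  refine ⟨_, hmem [7, 6], orderOf_eq_prime_pow (n := 1) ?_ ?_⟩
  · rw [pow_one_iff p _ (by decide), pow_one]
    intro h
    rcases hp with rfl | rfl
    · obtain ⟨j, i, hji⟩ := small_data'.1
      exact hji (h j i)
    · obtain ⟨j, i, hji⟩ := small_data'.2
      exact hji (h j i)
  · rw [pow_one_iff p _ (by decide)]
    intro j i
    rcases hp with rfl | rfl
    · exact (small_data j i).1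
    · exact (small_data j i).2

end Small

end Cfsg.Agent.G2OrdersOdd
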