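import Cfsg.Agent.Lib.G2Iso.Iso
import Cfsg.Agent.Lib.UnionTwoClasses.G2Two

/-! Every automorphism of Zorn's algebra fixes a non-zero vector of trace zero, odd characteristic. -/

set_option autoImplicit false

namespace Cfsg.Agent.G2OrdersOdd

open Matrix Cfsg.Lie G2Oct UnionTwoClasses

variable {F : Type*} [Field F]

theorem app_eq_mulVec (g : GL (Fin 8) F) (x : Fin 8 → F) :
    app g x = (g : Matrix (Fin 8) (Fin 8) F) *ᵥ x := rfl

/-- The automorphisms have determinant one. -/
theorem det_eq_one [Fintype F] (hF : 3 ≤ Fintype.card F) {g : GL (Fin 8) F} (hg : g ∈ Lie.G2 F) :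
    (g : Matrix (Fin 8) (Fin 8) F).det = 1 := by
  classical
  obtain ⟨a, ha0, ha1⟩ : ∃ a : F, a ≠ 0 ∧ a ≠ 1 := by
    by_contra h
    push Not at h
    have hsub : (Finset.univ : Finset F) ⊆ {0, 1} := fun x _ => by
      by_cases hx : x = 0 <;> simp [hx, h x]
    have := (Finset.card_le_card hsub).trans Finset.card_le_two
    rw [Finset.card_univ] at this
    omega
  obtain ⟨e⟩ := G2Iso.exists_iso (F := F) hF
  have hsimp : IsSimpleGroup ↥(chevG2.group F) := by
    obtain ⟨T, t, hT, -⟩ := Chev.exists_goodS (D := chevG2) (by simp)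
    rw [← hT]
    exact (Chev.Tab.group_simple t (Or.inr ⟨a, ha0, ha1⟩)).1
  obtain ⟨d, hd⟩ : ∃ d : ↥(chevG2.group F) →* Fˣ,
      d = (Matrix.GeneralLinearGroup.det.comp (Lie.G2 F).subtype).comp e.toMonoidHom := ⟨_, rfl⟩
  rcases hsimp.eq_bot_or_eq_top_of_normal d.ker inferInstance with h | h
  · exfalso
    have hinj := (MonoidHom.ker_eq_bot_iff d).1 h
    have hcomm : ∀ x y : ↥(Lie.G2 F), x * y = y * x := fun x y => by
      apply e.symm.injective
      rw [map_mul, map_mul]
      exact hinj (by rw [map_mul, map_mul, mul_comm])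
    obtain ⟨A, hA⟩ : ∃ A : Matrix.SpecialLinearGroup (Fin 3) F, A.1 = Matrix.transvection 0 1 1 :=
      ⟨⟨_, Matrix.det_transvection_of_ne 0 1 (by decide) 1⟩, rfl⟩
    obtain ⟨B, hB⟩ : ∃ B : Matrix.SpecialLinearGroup (Fin 3) F, B.1 = Matrix.transvection 1 0 1 :=
      ⟨⟨_, Matrix.det_transvection_of_ne 1 0 (by decide) 1⟩, rfl⟩
    have h1 := congrArg Subtype.val (hcomm ⟨slHom A, slHom_mem A⟩ ⟨slHom B, slHom_mem B⟩)
    simp only [Subgroup.coe_mul, ← map_mul] at h1
    have h2 : A.1 * B.1 = B.1 * A.1 := congrArg Subtype.val (slHom_injective h1)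
    rw [hA, hB] at h2
    have h3 := congrFun (congrFun h2 0) 0
    simp only [Matrix.mul_apply, Fin.sum_univ_three, Matrix.transvection, Matrix.add_apply, Matrix.one_apply,
      Matrix.single_apply, Fin.isValue] at h3
    norm_num [Fin.ext_iff] at h3
    exact one_ne_zero (show (1 : F) = 0 by linear_combination h3)
  · have h1 : d (e.symm ⟨g, hg⟩) = 1 := MonoidHom.mem_ker.1 (by rw [h]; exact Subgroup.mem_top _)
    rw [hd] at h1
    replace h1 : Matrix.GeneralLinearGroup.det ((e (e.symm ⟨g, hg⟩) : ↥(Lie.G2 F)) : GL (Fin 8) F) = 1 := h1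
    rw [MulEquiv.apply_symm_apply] at h1
    have h2 := congrArg Units.val h1
    rwa [Matrix.GeneralLinearGroup.val_det_apply, Units.val_one] at h2

/-- Every automorphism fixes a non-zero vector of trace zero. -/
theorem exists_fixed [Fintype F] (hF : 3 ≤ Fintype.card F) (h2 : (2 : F) ≠ 0) {g : GL (Fin 8) F}
    (hg : g ∈ Lie.G2 F) : ∃ v : Fin 8 → F, v ≠ 0 ∧ octTr v = 0 ∧ app g v = v := by
  obtain ⟨G, hG⟩ : ∃ G : Matrix (Fin 8) (Fin 8) F, G = (g : Matrix (Fin 8) (Fin 8) F) := ⟨_, rfl⟩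
  obtain ⟨J, hJ⟩ : ∃ J : Matrix (Fin 8) (Fin 8) F, J = LinearMap.BilinForm.toMatrix' (octPolar F) := ⟨_, rfl⟩
  obtain ⟨P, hP⟩ : ∃ P : Matrix (Fin 8) (Fin 8) F, P = vecMulVec one8 one8 := ⟨_, rfl⟩
  have hJd : J.det ≠ 0 := by
    rw [hJ]
    exact Matrix.nondegenerate_iff_det_ne_zero.1 (LinearMap.BilinForm.nondegenerate_toMatrix'_iff.2 octPolar_nondeg)
  have hGJ : Gᵀ * J * G = J := by
    have hc : (octPolar F).comp (Matrix.toLin' G) (Matrix.toLin' G) = octPolar F :=
      LinearMap.BilinForm.ext fun x y => by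
        simp only [LinearMap.BilinForm.comp_apply, Matrix.toLin'_apply, hG, ← app_eq_mulVec, octPolar_app hg]
    have h := LinearMap.BilinForm.toMatrix'_comp (octPolar F) (Matrix.toLin' G) (Matrix.toLin' G)
    rw [hc, ← hJ, LinearMap.toMatrix'_toLin'] at h
    exact h.symm
  have htr : ∀ x : Fin 8 → F, octTr x = one8 ⬝ᵥ x := fun x => by
    simp [octTr, one8, mk, dotProduct, Fin.sum_univ_eight]
  have hu : (one8 : Fin 8 → F) ᵥ* G = one8 := by
    funext i
    have h := (octQ_app hg (Pi.single i 1)).1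
    rw [htr, htr, app_eq_mulVec, ← hG, dotProduct_mulVec] at h
    simpa using h
  have hG1 : G *ᵥ one8 = one8 := by
    rw [hG, ← app_eq_mulVec, app_one8 hg]
  have hPG : P * G = P := by rw [hP, vecMulVec_mul, hu]
  have hGP : G * P = P := by rw [hP, mul_vecMulVec, hG1]
  have hJs : ∀ i j, J i j = J j i := fun i j => by
    rw [hJ, LinearMap.BilinForm.toMatrix'_apply, LinearMap.BilinForm.toMatrix'_apply, octPolar_apply,
      octPolar_apply, add_comm]
    ring
  have hJ1 : J *ᵥ one8 = one8 := by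
    funext i
    have h : octPolar F (Pi.single i 1) one8 = (one8 : Fin 8 → F) i := by
      rw [octPolar_one, htr]; simp
    rw [← h, hJ, Matrix.mulVec, dotProduct]
    simp only [LinearMap.BilinForm.toMatrix'_apply]
    rw [show (one8 : Fin 8 → F) = Pi.single 0 1 + Pi.single 7 1 by
      ext k; fin_cases k <;> simp [one8, mk]]
    simp [Fin.sum_univ_eight, Pi.single_apply, map_add]
  have h1J : (one8 : Fin 8 → F) ᵥ* J = one8 := by
    conv_rhs => rw [← hJ1]
    funext i
    simp only [Matrix.vecMul, Matrix.mulVec, dotProduct]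
    exact Finset.sum_congr rfl fun j _ => by rw [hJs i j, mul_comm]
  have hPJ : P * J = P := by rw [hP, vecMulVec_mul, h1J]
  have hJP : J * P = P := by rw [hP, mul_vecMulVec, hJ1]
  have hPt : Pᵀ = P := by rw [hP, transpose_vecMulVec]
  have hPP : P * P = (2 : F) • P := by
    rw [hP]
    ext i j
    simp only [Matrix.mul_apply, Matrix.smul_apply, vecMulVec_apply, smul_eq_mul, Fin.sum_univ_eight]
    simp [one8, mk]
    ring
  obtain ⟨H, hH⟩ : ∃ H, H = G - 1 + P := ⟨_, rfl⟩
  have e1 : Hᵀ * J * G = J * (1 - G + P) := by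
    rw [hH, transpose_add, transpose_sub, transpose_one, hPt]
    simp only [add_mul, sub_mul, mul_add, mul_sub, one_mul, mul_one, hGJ, hPJ, hPG, hJP]
  have hdG : G.det = 1 := hG ▸ det_eq_one hF hg
  have d1 : H.det = (1 - G + P).det := by
    have := congrArg Matrix.det e1
    rw [det_mul, det_mul, det_mul, det_transpose, hdG, mul_one, mul_comm] at this
    exact mul_left_cancel₀ hJd this
  have d2 : (1 - G + P).det = (G - 1 - P).det := by
    rw [show 1 - G + P = -(G - 1 - P) by abel, det_neg, Fintype.card_fin]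
    norm_num
  have e3 : H * (1 - P) = G - 1 - P := by
    rw [hH, mul_sub, mul_one, add_mul, sub_mul, one_mul, hGP, hPP]
    module
  have d3 : (1 - P).det = -1 := by
    rw [hP, sub_eq_add_neg, ← neg_vecMulVec, vecMulVec_eq Unit, det_one_add_replicateCol_mul_replicateRow]
    simp [one8, mk, dotProduct, Fin.sum_univ_eight]
  have d4 : H.det = 0 := by
    have := congrArg Matrix.det e3
    rw [det_mul, d3, ← d2, ← d1] at this
    exact (mul_eq_zero.1 (show (2 : F) * H.det = 0 by linear_combination -this)).resolve_left h2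
  obtain ⟨v, hv0, hv⟩ := Matrix.exists_mulVec_eq_zero_iff.2 d4
  rw [hH, add_mulVec, sub_mulVec, one_mulVec, hP, vecMulVec_mulVec, hG, ← app_eq_mulVec, ← htr] at hv
  have hv' : app g v = v - octTr v • one8 := by
    rw [op_smul_eq_smul] at hv
    rw [eq_sub_iff_add_eq, ← sub_eq_zero, ← hv]
    abel
  have ht : octTr v = 0 := by
    have h := (octQ_app hg v).1
    rw [hv'] at h
    simp [octTr, one8, mk] at h
    refine (mul_eq_zero.1 (show (2 : F) * octTr v = 0 from ?_)).resolve_left h2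
    rw [octTr]
    linear_combination -h
  exact ⟨v, hv0, ht, by rw [hv', ht, zero_smul, sub_zero]⟩

end Cfsg.Agent.G2OrdersOdd
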