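import Cfsg.Agent.Lib.G2OrdersOdd.Exist
import Cfsg.Agent.Lib.G2Iso.Iso

/-! The element orders of `G₂(q)`, `q` odd. -/

set_option autoImplicit false

namespace Cfsg.Agent.G2OrdersOdd

open Matrix Cfsg.Lie G2Oct

variable {F : Type*} [Field F]

theorem eq_or_two_mul_le {x y : ℕ} (h : x ∣ y) (hy : y ≠ 0) : x = y ∨ 2 * x ≤ y := by
  obtain ⟨k, rfl⟩ := h
  rcases k with _ | _ | k
  · simp at hy
  · exact Or.inl (by simp)
  · exact Or.inr (by rw [mul_comm 2]; exact Nat.mul_le_mul_left x (by omega))

/-- No listed exponent divides another one. -/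
theorem antichain {p q : ℕ} (hp : p.Prime) (hp2 : p ≠ 2) (hq : 5 ≤ q) (hodd : Odd q) (hpq : p ∣ q) {n m : ℕ}
    (hn : n ∈ expListAll p q) (hm : m ∈ expListAll p q) (h : n ∣ m) : n = m := by
  have hp3 : 3 ≤ p := by have := hp.two_le; omega
  have hqq : q * 5 ≤ q ^ 2 := by rw [sq]; exact Nat.mul_le_mul_left q hq
  have hpm : ¬ p ∣ q - 1 := fun h' =>
    hp.not_dvd_one (by simpa [show q - (q - 1) = 1 by omega] using Nat.dvd_sub hpq h')
  have hpp : ¬ p ∣ q + 1 := fun h' => hp.not_dvd_one ((Nat.dvd_add_iff_right hpq).2 h')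
  have hpq2 : p ∣ q ^ 2 := hpq.trans (dvd_pow_self q two_ne_zero)
  have hps : ¬ p ∣ q ^ 2 - 1 := fun h' =>
    hp.not_dvd_one (by simpa [show q ^ 2 - (q ^ 2 - 1) = 1 by omega] using Nat.dvd_sub hpq2 h')
  have hp1 : ¬ p ∣ q ^ 2 + q + 1 := fun h' => hp.not_dvd_one ((Nat.dvd_add_iff_right (dvd_add hpq2 hpq)).2 h')
  have hp0 : ¬ p ∣ q ^ 2 - q + 1 := fun h' => hp.not_dvd_one ((Nat.dvd_add_iff_right (Nat.dvd_sub hpq2 hpq)).2 h')
  have cancel : ∀ {x y : ℕ}, ¬ p ∣ x → x ∣ p * y → x ∣ y := fun hx hxy =>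
    ((hp.coprime_iff_not_dvd.2 hx).symm).dvd_of_dvd_mul_left hxy
  have small : ∀ {x y : ℕ}, x ∣ y → y ≠ 0 → y < 2 * x → x = y := fun hxy hy hlt =>
    (eq_or_two_mul_le hxy hy).resolve_right (by omega)
  have hev : ¬ (q - 1) ∣ p := fun h' => by
    rcases (Nat.dvd_prime hp).1 h' with h1 | h1
    · omega
    · obtain ⟨k, hk⟩ := hodd
      rcases hp.eq_two_or_odd with h2 | h2 <;> omega
  have hev' : ¬ (q + 1) ∣ p := fun h' => by
    rcases (Nat.dvd_prime hp).1 h' with h1 | h1
    · omega
    · obtain ⟨k, hk⟩ := hodd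
      rcases hp.eq_two_or_odd with h2 | h2 <;> omega
  simp only [expListAll, expList, List.mem_append, List.mem_cons, List.not_mem_nil, or_false] at hn hm
  rcases hn with (rfl | rfl | rfl | rfl | rfl) | hn
  rotate_left 5
  · -- the square of the characteristic
    split at hn
    case isFalse => simp at hn
    simp only [List.mem_singleton] at hn
    subst hn
    rcases hm with (rfl | rfl | rfl | rfl | rfl) | hm
    · rw [sq p] at h; exact absurd (Nat.dvd_of_mul_dvd_mul_left hp.pos h) hpp
    · rw [sq p] at h; exact absurd (Nat.dvd_of_mul_dvd_mul_left hp.pos h) hpm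
    · exact absurd ((dvd_pow_self p two_ne_zero).trans h) hps
    · exact absurd ((dvd_pow_self p two_ne_zero).trans h) hp1
    · exact absurd ((dvd_pow_self p two_ne_zero).trans h) hp0
    · split at hm
      · exact (List.mem_singleton.1 hm).symm
      · exact absurd ‹p = 3 ∨ p = 5› ‹¬(p = 3 ∨ p = 5)›
  all_goals
    rcases hm with (rfl | rfl | rfl | rfl | rfl) | hm
    rotate_left 5
    · split at hm
      case isFalse => simp at hm
      simp only [List.mem_singleton] at hm
      subst hm
      rw [sq p] at h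
      first
        | exact absurd (Nat.dvd_of_mul_dvd_mul_left hp.pos h) hev'
        | exact absurd (Nat.dvd_of_mul_dvd_mul_left hp.pos h) hev
        | (have h1 := cancel hps h
           rcases (Nat.dvd_prime hp).1 h1 with h2 | h2
           · omega
           · exact absurd h2.symm.dvd hps)
        | (have h1 := cancel hp1 h
           rcases (Nat.dvd_prime hp).1 h1 with h2 | h2
           · omega
           · exact absurd h2.symm.dvd hp1)
        | (have h1 := cancel hp0 h
           rcases (Nat.dvd_prime hp).1 h1 with h2 | h2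
           · omega
           · exact absurd h2.symm.dvd hp0)
    all_goals
      first
        | rfl
        | exact absurd ((dvd_mul_right p _).trans h) hps
        | exact absurd ((dvd_mul_right p _).trans h) hp1
        | exact absurd ((dvd_mul_right p _).trans h) hp0
        | (have h1 := small (Nat.dvd_of_mul_dvd_mul_left hp.pos h) (by omega) (by omega); omega)
        | (have h1 := Nat.le_of_dvd (by omega) (Nat.dvd_of_mul_dvd_mul_left hp.pos h); omega)
        | (have h1 := Nat.le_of_dvd (by omega) (cancel hps h); omega)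
        | (have h1 := Nat.le_of_dvd (by omega) (cancel hp1 h); omega)
        | (have h1 := Nat.le_of_dvd (by omega) (cancel hp0 h); omega)
        | (have h1 := small h (by omega) (by omega); omega)
        | (have h1 := Nat.le_of_dvd (by omega) h; omega)

/-- The element orders of the Chevalley group. -/
theorem main [Fintype F] (p a : ℕ) (hp : p.Prime) (hp2 : p ≠ 2) (ha : 1 ≤ a) (hF : Fintype.card F = p ^ a)
    (hq5 : 5 ≤ p ^ a) :
    (∀ x : ↥(chevG2.group F), ∃ n ∈ expListAll p (p ^ a), orderOf x ∣ n) ∧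
      ∀ n ∈ expListAll p (p ^ a), ∃ x : ↥(chevG2.group F), orderOf x = n := by
  haveI : Fact p.Prime := ⟨hp⟩
  haveI : CharP F p := by
    obtain ⟨r, hr⟩ := CharP.exists F
    haveI := hr
    obtain ⟨⟨n, hn⟩, hprime, hc⟩ := FiniteField.card F r
    have hdvd : r ∣ p ^ a := hF ▸ hc ▸ dvd_pow_self r (Nat.pos_iff_ne_zero.1 hn)
    rwa [← (Nat.prime_dvd_prime_iff_eq hprime hp).1 (hprime.dvd_of_dvd_pow hdvd)]
  have hp3 : 3 ≤ p := by have := hp.two_le; omega
  obtain ⟨e⟩ := G2Iso.exists_iso (F := F) (by omega)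
  constructor
  · intro x
    obtain ⟨n, hn, h1⟩ := exists_exp_G2 p a hp3 hF (e x).2
    refine ⟨n, hn, ?_⟩
    rw [← MulEquiv.orderOf_eq e x, ← Subgroup.orderOf_coe]
    exact orderOf_dvd_of_pow_eq_one h1
  · intro n hn
    suffices h : ∃ g ∈ Lie.G2 F, orderOf g = n by
      obtain ⟨g, hg, ho⟩ := h
      exact ⟨e.symm ⟨g, hg⟩, by rw [MulEquiv.orderOf_eq, ← Subgroup.orderOf_coe]; exact ho⟩
    simp only [expListAll, expList, List.mem_append, List.mem_cons, List.not_mem_nil, or_false] at hn
    rcases hn with (rfl | rfl | rfl | rfl | rfl) | hn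
    · exact (exists_p_mul p ha hF).1
    · exact (exists_p_mul p ha hF).2
    · exact hF ▸ G2Orders.exists_q_sq_sub_one p
    · exact hF ▸ G2Orders.exists_singer_plus
    · exact exists_singer_minus p hp3 ha hF
    · split at hn
      · rename_i h35
        rw [List.mem_singleton.1 hn]
        exact exists_p_sq p h35
      · simp at hn

end Cfsg.Agent.G2OrdersOdd
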