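import Mathlib.FieldTheory.IsAlgClosed.AlgebraicClosure
import Mathlib.FieldTheory.Finite.Basic
import Mathlib.RingTheory.Coprime.Lemmas

/-!
Orders of elements annihilated by a cubic whose roots are permuted by a twisted power map, in odd
characteristic.
-/

set_option autoImplicit false

namespace Cfsg.Agent.G2OrdersOdd

open Polynomial

/-- Possible exponents. -/
def expList (p q : ℕ) : List ℕ := [p * (q + 1), p * (q - 1), q ^ 2 - 1, q ^ 2 + q + 1, q ^ 2 - q + 1]

section LinAlg

variable {L : Type*} [Field L] {R : Type*} [Ring R] [Algebra L R]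

/-- The cubic with three given roots. -/
noncomputable def cub (a b c : L) : L[X] := (X - C a) * (X - C b) * (X - C c)

theorem pow_of_dvd {f : L[X]} {A : R} (hA : aeval A f = 0) {n : ℕ} (h : f ∣ X ^ n - 1) : A ^ n = 1 := by
  obtain ⟨g, hg⟩ := h
  have := congrArg (aeval A) hg
  rw [map_sub, map_mul, hA, zero_mul, map_pow, aeval_X, map_one, sub_eq_zero] at this
  exact this

theorem dvd_root {a : L} {n : ℕ} (ha : a ^ n = 1) : (X - C a) ∣ (X ^ n - 1 : L[X]) := by
  rw [dvd_iff_isRoot]; simp [IsRoot, ha]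

theorem coprime_root {a b : L} (h : a ≠ b) : IsCoprime (X - C a) (X - C b) :=
  isCoprime_X_sub_C_of_isUnit_sub (sub_ne_zero.2 h).isUnit

theorem pow_of_distinct {a b c : L} {A : R} {n : ℕ} (hA : aeval A (cub a b c) = 0) (hab : a ≠ b) (hac : a ≠ c)
    (hbc : b ≠ c) (ha : a ^ n = 1) (hb : b ^ n = 1) (hc : c ^ n = 1) : A ^ n = 1 :=
  pow_of_dvd hA <| IsCoprime.mul_dvd (IsCoprime.mul_left (coprime_root hac) (coprime_root hbc))
    (IsCoprime.mul_dvd (coprime_root hab) (dvd_root ha) (dvd_root hb)) (dvd_root hc)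

variable (p : ℕ) [Fact p.Prime] [CharP L p]

theorem X_pow_mul_sub (n : ℕ) : (X ^ (p * n) - 1 : L[X]) = (X ^ n - 1) ^ p := by
  rw [sub_pow_char, one_pow, ← pow_mul, mul_comm]

theorem dvd_root_pow {a : L} {n k : ℕ} (ha : a ^ n = 1) (hk : k ≤ p) :
    (X - C a) ^ k ∣ (X ^ (p * n) - 1 : L[X]) := by
  rw [X_pow_mul_sub]
  exact (pow_dvd_pow _ hk).trans (pow_dvd_pow_of_dvd (dvd_root ha) p)

theorem pow_of_double (hp : 2 ≤ p) {a c : L} {A : R} {n : ℕ} (hA : aeval A (cub a a c) = 0)
    (ha : a ^ n = 1) (hc : c ^ n = 1) (hac : a ≠ c) : A ^ (p * n) = 1 := by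
  refine pow_of_dvd hA ?_
  rw [cub, ← sq]
  refine IsCoprime.mul_dvd ((coprime_root hac).pow_left) (dvd_root_pow p ha hp) ?_
  simpa using dvd_root_pow p hc (k := 1) (by omega)

theorem pow_of_triple (hp : 3 ≤ p) {a : L} {A : R} {n : ℕ} (hA : aeval A (cub a a a) = 0) (ha : a ^ n = 1) :
    A ^ (p * n) = 1 := by
  refine pow_of_dvd hA ?_
  rw [show cub a a a = (X - C a) ^ 3 by rw [cub]; ring]
  exact dvd_root_pow p ha hp

theorem cub_swap12 (a b c : L) : cub a b c = cub b a c := by rw [cub, cub]; ring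
theorem cub_swap23 (a b c : L) : cub a b c = cub a c b := by rw [cub, cub]; ring

/-- A point fixed by the twisted map. -/
theorem fixed_pm {q : ℕ} (hq : 1 ≤ q) {x : L} (hx : x ≠ 0) (h : x ^ q = x ∨ (x ^ q)⁻¹ = x) :
    x ^ (q - 1) = 1 ∨ x ^ (q + 1) = 1 := by
  rcases h with h | h
  · left
    refine mul_right_cancel₀ hx ?_
    rw [← pow_succ, Nat.sub_add_cancel hq, h, one_mul]
  · right
    rw [pow_succ]
    nth_rewrite 2 [← h]
    rw [mul_inv_cancel₀ (pow_ne_zero _ hx)]

theorem pow_q2 {q : ℕ} (hq : 1 ≤ q) {x : L} (hx : x ≠ 0) (h : x ^ q ^ 2 = x) : x ^ (q ^ 2 - 1) = 1 := by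
  refine mul_right_cancel₀ hx ?_
  rw [← pow_succ, Nat.sub_add_cancel (Nat.one_le_pow _ _ hq), h, one_mul]

/-- Two roots equal. -/
theorem case_double {a c : L} {A : R} {q : ℕ} (hp : 2 ≤ p) (hq : 1 ≤ q) (hA : aeval A (cub a a c) = 0) (hac : a ≠ c)
    (φ : L → L) (hsub : a * a * c = 1) (hφ : φ a = a ∨ φ a = c) (hφc : φ c = a ∨ φ c = c)
    (hinj : φ a ≠ φ c) (hmul : ∀ x y, φ (x * y) = φ x * φ y) (h1 : φ 1 = 1)
    (hfix : ∀ x, φ x = x → x ^ q = x ∨ (x ^ q)⁻¹ = x) :
    ∃ n ∈ expList p q, A ^ n = 1 := by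
  have ha0 : a ≠ 0 := fun h => by rw [h, zero_mul, zero_mul] at hsub; exact zero_ne_one hsub
  have hc0 : c ≠ 0 := fun h => by rw [h, mul_zero] at hsub; exact zero_ne_one hsub
  have key : φ a = a := by
    refine hφ.resolve_right fun h => ?_
    have hc : φ c = a := hφc.resolve_right fun h' => hinj (h.trans h'.symm)
    have := congrArg φ hsub
    rw [hmul, hmul, h, hc, h1] at this
    apply hac
    refine mul_left_cancel₀ (mul_ne_zero ha0 hc0) ?_
    linear_combination hsub - this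
  have hc2 : ∀ m, a ^ m = 1 → c ^ m = 1 := fun m hm => by
    have := congrArg (· ^ m) hsub
    simpa [mul_pow, hm] using this
  rcases fixed_pm hq ha0 (hfix a key) with h | h
  · exact ⟨p * (q - 1), by simp only [expList, List.mem_cons, true_or, or_true],
      pow_of_double p hp hA h (hc2 _ h) hac⟩
  · exact ⟨p * (q + 1), by simp only [expList, List.mem_cons, true_or, or_true],
      pow_of_double p hp hA h (hc2 _ h) hac⟩

/-- The main case distinction. -/
theorem exists_exp (hp : 3 ≤ p) {q : ℕ} (hq : 1 ≤ q) (hqinj : ∀ x y : L, x ^ q = y ^ q → x = y) {a b c : L} {A : R}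
    (hA : aeval A (cub a b c) = 0) (habc : a * b * c = 1) (φ : L → L) (e : Bool)
    (hφ : ∀ x, φ x = if e then x ^ q else (x ^ q)⁻¹)
    (hmaps : ∀ x, (x = a ∨ x = b ∨ x = c) → φ x = a ∨ φ x = b ∨ φ x = c) :
    ∃ n ∈ expList p q, A ^ n = 1 := by
  have hmul : ∀ x y, φ (x * y) = φ x * φ y := fun x y => by
    cases e <;> simp [hφ, mul_pow, mul_comm]
  have h1 : φ 1 = 1 := by cases e <;> simp [hφ]
  have hinj : ∀ x y, φ x = φ y → x = y := fun x y h => by
    cases e <;> simp [hφ] at h <;> exact hqinj _ _ h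
  have hfix : ∀ x, φ x = x → (x ^ q = x ∨ (x ^ q)⁻¹ = x) := fun x h => by
    cases e <;> simp [hφ] at h
    · exact Or.inr (by simpa using h)
    · exact Or.inl h
  have ha0 : a ≠ 0 := fun h => by rw [h, zero_mul, zero_mul] at habc; exact zero_ne_one habc
  have hb0 : b ≠ 0 := fun h => by rw [h, mul_zero, zero_mul] at habc; exact zero_ne_one habc
  have hc0 : c ≠ 0 := fun h => by rw [h, mul_zero] at habc; exact zero_ne_one habc
  by_cases hab : a = b
  · subst hab
    by_cases hac : a = c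
    · subst hac
      have hfa : φ a = a := by rcases hmaps a (Or.inl rfl) with h | h | h <;> exact h
      rcases fixed_pm hq ha0 (hfix a hfa) with h | h
      · exact ⟨p * (q - 1), by simp only [expList, List.mem_cons, true_or, or_true], pow_of_triple p hp hA h⟩
      · exact ⟨p * (q + 1), by simp only [expList, List.mem_cons, true_or, or_true], pow_of_triple p hp hA h⟩
    · exact case_double p (by omega) hq hA hac φ habc (by rcases hmaps a (Or.inl rfl) with h | h | h <;> simp [h])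
        (by rcases hmaps c (by simp) with h | h | h <;> simp [h]) (fun h => hac (hinj _ _ h)) hmul h1 hfix
  by_cases hac : a = c
  · subst hac
    rw [cub_swap23] at hA
    exact case_double p (by omega) hq hA hab φ (by rw [← habc]; ring)
      (by rcases hmaps a (Or.inl rfl) with h | h | h <;> simp [h])
      (by rcases hmaps b (by simp) with h | h | h <;> simp [h]) (fun h => hab (hinj _ _ h)) hmul h1 hfix
  by_cases hbc : b = c
  · subst hbc
    rw [cub_swap12, cub_swap23] at hA
    exact case_double p (by omega) hq hA (Ne.symm hab) φ (by rw [← habc]; ring)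
      (by rcases hmaps b (by simp) with h | h | h <;> simp [h])
      (by rcases hmaps a (by simp) with h | h | h <;> simp [h]) (fun h => hab (hinj _ _ h).symm) hmul h1 hfix
  have hsq : ∀ x, φ (φ x) = x ^ q ^ 2 := fun x => by
    cases e <;> simp [hφ, ← pow_mul, sq, ← inv_pow]
  have hcyc : ∀ x y z : L, x * y * z = 1 → x ≠ 0 → φ x = y → φ y = z →
      x ^ (if e then q ^ 2 + q + 1 else q ^ 2 - q + 1) = 1 := by
    intro x y z h hx hxy hyz
    rw [← hyz, ← hxy, hsq, hφ] at h
    cases he : e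
    · rw [he] at h
      simp only [Bool.false_eq_true, if_false] at h ⊢
      have hqq : q ≤ q ^ 2 := Nat.le_self_pow (by norm_num) q
      refine mul_right_cancel₀ (pow_ne_zero q hx) ?_
      rw [one_mul, ← pow_add, show q ^ 2 - q + 1 + q = q ^ 2 + 1 by omega, pow_succ]
      calc x ^ q ^ 2 * x = x * (x ^ q)⁻¹ * x ^ q ^ 2 * x ^ q := by
            field_simp [pow_ne_zero q hx]
        _ = x ^ q := by rw [h, one_mul]
    · rw [he] at h
      simp only [if_true] at h ⊢
      rw [← h]; ring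
  obtain ⟨n, hn, ha, hb, hc⟩ : ∃ n ∈ expList p q, a ^ n = 1 ∧ b ^ n = 1 ∧ c ^ n = 1 := by
    have hmem : (if e then q ^ 2 + q + 1 else q ^ 2 - q + 1) ∈ expList p q := by
      cases e <;> simp only [Bool.false_eq_true, if_false, if_true, expList, List.mem_cons, true_or, or_true]
    have sq_fix : (φ (φ a) = a ∧ φ (φ b) = b ∧ φ (φ c) = c) →
        ∃ n ∈ expList p q, a ^ n = 1 ∧ b ^ n = 1 ∧ c ^ n = 1 := by
      rintro ⟨h1, h2, h3⟩
      rw [hsq] at h1 h2 h3
      exact ⟨q ^ 2 - 1, by simp only [expList, List.mem_cons, true_or, or_true],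
        pow_q2 hq ha0 h1, pow_q2 hq hb0 h2, pow_q2 hq hc0 h3⟩
    have h3 : φ a = b → φ b = c → φ c = a → ∃ n ∈ expList p q, a ^ n = 1 ∧ b ^ n = 1 ∧ c ^ n = 1 :=
      fun i1 i2 i3 => ⟨_, hmem, hcyc a b c habc ha0 i1 i2, hcyc b c a (by rw [← habc]; ring) hb0 i2 i3,
        hcyc c a b (by rw [← habc]; ring) hc0 i3 i1⟩
    have h3' : φ a = c → φ c = b → φ b = a → ∃ n ∈ expList p q, a ^ n = 1 ∧ b ^ n = 1 ∧ c ^ n = 1 :=
      fun i1 i2 i3 => ⟨_, hmem, hcyc a c b (by rw [← habc]; ring) ha0 i1 i2,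
        hcyc b a c (by rw [← habc]; ring) hb0 i3 i1, hcyc c b a (by rw [← habc]; ring) hc0 i2 i3⟩
    have nab : φ a ≠ φ b := fun h => hab (hinj _ _ h)
    have nac : φ a ≠ φ c := fun h => hac (hinj _ _ h)
    have nbc : φ b ≠ φ c := fun h => hbc (hinj _ _ h)
    rcases hmaps a (Or.inl rfl) with ia | ia | ia <;>
      rcases hmaps b (Or.inr (Or.inl rfl)) with ib | ib | ib <;>
        rcases hmaps c (Or.inr (Or.inr rfl)) with ic | ic | ic <;>
          first
            | exact (nab (ia.trans ib.symm)).elim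
            | exact (nac (ia.trans ic.symm)).elim
            | exact (nbc (ib.trans ic.symm)).elim
            | exact h3 ia ib ic
            | exact h3' ia ic ib
            | (refine sq_fix ⟨?_, ?_, ?_⟩ <;> simp only [ia, ib, ic])
  exact ⟨n, hn, pow_of_distinct hA hab hac hbc ha hb hc⟩

end LinAlg

end Cfsg.Agent.G2OrdersOdd
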