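import Cfsg.Agent.Lib.UnionTwoClasses.G2Two
import Cfsg.Agent.Lib.G2OrdersOdd.Roots

/-!
The stabiliser of a nilpotent octonion of trace zero: the annihilator flag and the resulting
equation satisfied by its elements, odd characteristic.
-/

set_option autoImplicit false

namespace Cfsg.Agent.G2OrdersOdd

open Matrix Cfsg.Lie G2Oct UnionTwoClasses

variable {F : Type*} [Field F]

/-- The standard null vector. -/
def n0 : Fin 8 → F := mk 0 (Pi.single 0 1) 0 0

theorem exists_cross_eq {a b : Fin 3 → F} (ha : a ≠ 0) (hab : dot3 a b = 0) : ∃ u, cross3 u a = b := by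
  simp only [dot3] at hab
  by_cases h0 : a 0 = 0
  · by_cases h1 : a 1 = 0
    · have h2 : a 2 ≠ 0 := fun h2 => ha (by ext i; fin_cases i <;> simp [h0, h1, h2])
      refine ⟨![-b 1 / a 2, b 0 / a 2, 0], ?_⟩
      have : b 2 = 0 := by simpa [h0, h1, h2] using hab
      ext i; fin_cases i <;> simp [cross3, h0, h1, this] <;> field_simp
    · refine ⟨![b 2 / a 1, 0, -b 0 / a 1], ?_⟩
      ext i; fin_cases i <;> simp [cross3, h0]
      · field_simp
      · field_simp
        linear_combination -(hab) + b 0 * h0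
      · field_simp
  · refine ⟨![0, -b 2 / a 0, b 1 / a 0], ?_⟩
    ext i; fin_cases i <;> simp [cross3]
    · field_simp
      linear_combination -hab
    · field_simp
    · field_simp

/-- Null vectors of trace zero are conjugate. -/
theorem exists_to_null {v : Fin 8 → F} (hv : v ≠ 0) (ht : octTr v = 0) (hq : octQ v = 0) :
    ∃ h ∈ Lie.G2 F, app h v = n0 := by
  have step : ∀ {y : Fin 8 → F} (L : (Fin 8 → F) ≃ₗ[F] (Fin 8 → F))
      (hL : ∀ p r, L (zornMul p r) = zornMul (L p) (L r)) {z : Fin 8 → F},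
      (∃ h ∈ Lie.G2 F, app h (L y) = z) → ∃ h ∈ Lie.G2 F, app h y = z := by
    rintro y L hL z ⟨h, hh, he⟩
    exact ⟨h * (Orth.glEquiv (Fin 8) F).symm L, mul_mem hh (symm_mem hL), by
      rw [app_mul, app_symm, he]⟩
  have key0 : ∀ a b : Fin 3 → F, a ≠ 0 → dot3 a b = 0 → ∃ h ∈ Lie.G2 F, app h (mk 0 a b 0) = n0 := by
    intro a b ha hab
    obtain ⟨u, hu⟩ := exists_cross_eq ha hab
    have hub : dot3 u b = 0 := by rw [← hu]; simp [dot3, cross3]; ring
    refine step (phiEquiv u) (phi_mul u) ?_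
    rw [phi_mk, hub, hu]
    simp only [sub_self, zero_smul, add_zero, sub_zero, zero_add, zero_mul, mul_zero]
    obtain ⟨w, hw⟩ := exists_dot ha (1 : F)
    obtain ⟨c, d, hcd⟩ := exists_cross w
    have hdet : (Matrix.of fun i j => ![a i, c i, d i] j : Matrix (Fin 3) (Fin 3) F).det = 1 := by
      rw [← hcd] at hw
      simp only [dot3, cross3, Matrix.cons_val_zero, Matrix.cons_val_one, Matrix.cons_val] at hw
      rw [Matrix.det_fin_three]
      simp only [Matrix.of_apply, Matrix.cons_val_zero, Matrix.cons_val_one, Matrix.cons_val]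
      linear_combination hw
    let A : Matrix.SpecialLinearGroup (Fin 3) F := ⟨_, hdet⟩
    refine ⟨(slHom A)⁻¹, inv_mem (slHom_mem A), app_inj (slHom A) ?_⟩
    rw [← app_mul, mul_inv_cancel, app_one, app_slHom, n0, slFun_mk, Matrix.mulVec_zero]
    congr 1
    show a = (Matrix.of fun i j => ![a i, c i, d i] j) *ᵥ _
    ext i
    simp [Matrix.mulVec, dotProduct, Fin.sum_univ_three, Pi.single_apply]
  have key : ∀ (α : F) (a b : Fin 3 → F), a ≠ 0 → -(α * α) - dot3 a b = 0 →
      ∃ h ∈ Lie.G2 F, app h (mk α a b (-α)) = n0 := by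
    intro α a b ha h0
    by_cases hα : α = 0
    · subst hα
      rw [neg_zero]
      exact key0 a b ha (by linear_combination -h0)
    · obtain ⟨w, hw⟩ := exists_dot ha α
      refine step (psiEquiv w) (psi_mul w) ?_
      rw [psi_mk, hw, sub_self, neg_add_cancel]
      refine key0 _ _ (fun h1 => hα ?_) ?_
      · rw [← hw]
        have : dot3 w (a + cross3 w b) = dot3 w a := by simp [dot3, cross3]; ring
        rw [← this, h1]; simp [dot3]
      · simp only [dot3] at hw h0 ⊢
        simp only [cross3, Pi.add_apply, Pi.sub_apply, Pi.smul_apply, smul_eq_mul, Matrix.cons_val_zero,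
          Matrix.cons_val_one, Matrix.cons_val]
        linear_combination α * hw - h0
  obtain ⟨α, a, b, β, rfl⟩ : ∃ (α : F) (a b : Fin 3 → F) (β : F), v = mk α a b β :=
    ⟨_, _, _, _, (mk_eta v).symm⟩
  rw [octTr_mk] at ht
  rw [octQ_mk] at hq
  obtain rfl : β = -α := by linear_combination ht
  by_cases ha : a = 0
  · subst ha
    rw [dot_zero_l, sub_zero] at hq
    obtain rfl : α = 0 := by simpa using hq
    have hb : b ≠ 0 := fun h => hv (by rw [h, neg_zero, mk_000])
    obtain ⟨u, hu⟩ := exists_dot hb (1 : F)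
    refine step (phiEquiv u) (phi_mul u) ?_
    rw [phi_mk, hu]
    have hu0 : u ≠ 0 := fun h => by rw [h, dot_zero_l] at hu; exact zero_ne_one hu
    have hq' : -((1 : F) * 1) - dot3 (-u) b = 0 := by
      rw [dot_neg_l, hu]; ring
    convert key 1 (-u) b (neg_ne_zero.2 hu0) hq' using 4
    ext i
    fin_cases i <;> simp [mk, cross3]
  · exact key α a b ha (by linear_combination hq)

/-- The annihilator of the null vector inside trace zero. -/
def InA (x : Fin 8 → F) : Prop := x 0 = 0 ∧ x 7 = 0 ∧ x 2 = 0 ∧ x 3 = 0 ∧ x 4 = 0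

theorem inA_iff (x : Fin 8 → F) : InA x ↔ zornMul n0 x = 0 ∧ octTr x = 0 := by
  have h : zornMul (n0 : Fin 8 → F) x = mk (x 4) (x 7 • (Pi.single 0 1 : Fin 3 → F)) ![0, -x 3, x 2] 0 := by
    ext i; fin_cases i <;> simp [zornMul, n0, mk, dot3, cross3, Pi.single_apply]
  rw [h, InA, octTr]
  constructor
  · rintro ⟨h0, h7, h2, h3, h4⟩
    exact ⟨by rw [h4, h7, h3, h2]; ext i; fin_cases i <;> simp [mk], by rw [h0, h7, add_zero]⟩
  · rintro ⟨h1, h2⟩
    have e := fun i => congrFun h1 i
    have e0 := e 0; have e1 := e 1; have e5 := e 5; have e6 := e 6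
    simp [mk] at e0 e1 e5 e6
    exact ⟨by rw [e1, add_zero] at h2; exact h2, e1, e6, e5, e0⟩

theorem polar_eq (x y : Fin 8 → F) : octPolar F x y =
    x 0 * y 7 + x 7 * y 0 - (x 1 * y 4 + x 4 * y 1 + x 2 * y 5 + x 5 * y 2 + x 3 * y 6 + x 6 * y 3) := by
  rw [octPolar_apply]; simp [octQ, dot3]; ring

section Stab

variable {g : GL (Fin 8) F}

/-- The linear map of an element. -/
noncomputable def lin (g : GL (Fin 8) F) : Module.End F (Fin 8 → F) :=
  (Orth.glEquiv (Fin 8) F g : (Fin 8 → F) ≃ₗ[F] (Fin 8 → F)).toLinearMap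

theorem lin_apply (g : GL (Fin 8) F) (x : Fin 8 → F) : lin g x = app g x := rfl

theorem inA_app (hg : g ∈ Lie.G2 F) (hn : app g n0 = n0) {x : Fin 8 → F} (hx : InA x) : InA (app g x) := by
  rw [inA_iff] at hx ⊢
  refine ⟨?_, by rw [(octQ_app hg x).1, hx.2]⟩
  conv_lhs => rw [← hn, ← mem_G2.1 hg, hx.1, app_zero]

theorem inA_symm (hg : g ∈ Lie.G2 F) (hn : app g n0 = n0) {x : Fin 8 → F} (hx : InA x) : InA (app g⁻¹ x) := by
  refine inA_app (inv_mem hg) (app_inj g ?_) hx
  rw [← app_mul, mul_inv_cancel, app_one, hn]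

/-- The basis of the annihilator modulo the null vector. -/
def e5 : Fin 8 → F := Pi.single 5 1
/-- The basis of the annihilator modulo the null vector. -/
def e6 : Fin 8 → F := Pi.single 6 1

theorem e5_apply (i : Fin 8) : (e5 : Fin 8 → F) i = if i = 5 then 1 else 0 := by simp [e5, Pi.single_apply]
theorem e6_apply (i : Fin 8) : (e6 : Fin 8 → F) i = if i = 6 then 1 else 0 := by simp [e6, Pi.single_apply]

theorem inA_e5 : InA (e5 : Fin 8 → F) := by simp [InA, e5, Pi.single_apply]
theorem inA_e6 : InA (e6 : Fin 8 → F) := by simp [InA, e6, Pi.single_apply]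

theorem inA_decomp {x : Fin 8 → F} (hx : InA x) : x = x 1 • n0 + x 5 • e5 + x 6 • e6 := by
  obtain ⟨h0, h7, h2, h3, h4⟩ := hx
  ext i
  simp only [Pi.add_apply, Pi.smul_apply, smul_eq_mul]
  fin_cases i <;> simp [n0, e5, e6, mk, Pi.single_apply, h0, h7, h2, h3, h4]

theorem det_one (hg : g ∈ Lie.G2 F) (hn : app g n0 = n0) :
    app g e5 5 * app g e6 6 - app g e6 5 * app g e5 6 = 1 := by
  obtain ⟨h0, h7, h2, h3, h4⟩ := inA_app hg hn (inA_e5 (F := F))
  obtain ⟨k0, k7, k2, k3, k4⟩ := inA_app hg hn (inA_e6 (F := F))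
  have h := mem_G2.1 hg e5 e6
  have hp : zornMul (e5 : Fin 8 → F) e6 = (-1 : F) • n0 := by
    ext i; fin_cases i <;> simp [zornMul, n0, e5, e6, mk, dot3, cross3, Pi.single_apply]
  rw [hp, app_smul, hn] at h
  have h1 := congrFun h 1
  simp [zornMul, n0, mk, cross3, Pi.single_apply, h0, h7, h2, h3, h4, k0, k7, k2, k3, k4] at h1
  linear_combination h1

/-- The trace on the annihilator modulo the null vector. -/
def trA (g : GL (Fin 8) F) : F := app g e5 5 + app g e6 6

/-- The quadratic expression. -/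
noncomputable def quad (g : GL (Fin 8) F) : Module.End F (Fin 8 → F) :=
  lin g * lin g - trA g • lin g + 1

theorem quad_apply (g : GL (Fin 8) F) (x : Fin 8 → F) :
    quad g x = app g (app g x) - trA g • app g x + x := rfl

theorem coord_app (hg : g ∈ Lie.G2 F) (hn : app g n0 = n0) {x : Fin 8 → F} (hx : InA x) :
    app g x 5 = x 5 * app g e5 5 + x 6 * app g e6 5 ∧ app g x 6 = x 5 * app g e5 6 + x 6 * app g e6 6 := by
  have h : app g x = x 1 • n0 + x 5 • app g e5 + x 6 • app g e6 := by
    conv_lhs => rw [inA_decomp hx, app_add, app_add, app_smul, app_smul, app_smul, hn]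
  constructor <;> rw [h] <;> simp only [Pi.add_apply, Pi.smul_apply, smul_eq_mul] <;> simp [n0, mk]

theorem quad_inA (hg : g ∈ Lie.G2 F) (hn : app g n0 = n0) {x : Fin 8 → F} (hx : InA x) :
    ∃ c : F, quad g x = c • n0 := by
  have h1 := inA_app hg hn hx
  have h2 := inA_app hg hn h1
  obtain ⟨a0, a7, a2, a3, a4⟩ := h2
  obtain ⟨b0, b7, b2, b3, b4⟩ := h1
  obtain ⟨c5, c6⟩ := coord_app hg hn hx
  obtain ⟨d5, d6⟩ := coord_app hg hn (inA_app hg hn hx)
  have hd := det_one hg hn
  obtain ⟨x0, x7, x2, x3, x4⟩ := hx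
  refine ⟨quad g x 1, ?_⟩
  rw [quad_apply]
  ext i
  simp only [Pi.add_apply, Pi.sub_apply, Pi.smul_apply, smul_eq_mul]
  fin_cases i <;> simp [n0, mk, a0, a7, a2, a3, a4, b0, b7, b2, b3, b4, x0, x7, x2, x3, x4]
  · rw [d5, c5, c6, trA]
    linear_combination -(x 5) * hd
  · rw [d6, c5, c6, trA]
    linear_combination -(x 6) * hd

theorem one_sub_n0 (hn : app g n0 = n0) (c : F) : lin g (c • n0) - c • n0 = 0 := by
  rw [lin_apply, app_smul, hn, sub_self]

theorem step_perp (hg : g ∈ Lie.G2 F) (hn : app g n0 = n0) (h2 : (2 : F) ≠ 0) {x : Fin 8 → F}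
    (ht : octTr x = 0) (h4 : x 4 = 0) (hx2 : x 2 = 0) (hx3 : x 3 = 0) : InA (app g x - x) := by
  obtain ⟨h, hh⟩ : ∃ h : Fin 8 → F, h = mk 1 0 0 (-1) := ⟨_, rfl⟩
  -- the image of the middle vector
  have htr : octTr (app g h) = 0 := by rw [(octQ_app hg h).1, hh, octTr_mk, add_neg_cancel]
  have hperp : ∀ y, InA y → octPolar F (app g h) y = 0 := by
    intro y hy
    have : y = app g (app g⁻¹ y) := by rw [← app_mul, mul_inv_cancel, app_one]
    rw [this, octPolar_app hg]
    obtain ⟨a0, a7, a2, a3, a4⟩ := inA_symm hg hn hy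
    rw [polar_eq, hh]; simp [mk, a0, a7, a2, a3, a4]
  have p4 := hperp n0 ((inA_iff _).2 ⟨by ext i; fin_cases i <;> simp [zornMul, n0, mk, dot3, cross3, Pi.single_apply],
    by simp [n0, octTr_mk]⟩)
  have p2 := hperp e5 inA_e5
  have p3 := hperp e6 inA_e6
  simp [polar_eq, n0, e5, e6, mk, Pi.single_apply] at p4 p2 p3
  have hmul : zornMul (app g h) n0 = n0 := by
    conv_lhs => rw [← hn, ← mem_G2.1 hg]
    rw [show zornMul h n0 = (n0 : Fin 8 → F) from ?_, hn]
    rw [hh]; ext i; fin_cases i <;> simp [zornMul, n0, mk, dot3, cross3, Pi.single_apply]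
  have hμ := congrFun hmul 1
  simp [zornMul, n0, mk, cross3, Pi.single_apply] at hμ
  rw [octTr] at htr
  have h7 : app g h 7 = -1 := by linear_combination htr - hμ
  obtain ⟨v0, v7, v2, v3, v4⟩ : h 0 = 1 ∧ h 7 = -1 ∧ h 2 = 0 ∧ h 3 = 0 ∧ h 4 = 0 := by
    rw [hh]; simp [mk]
  have hA : InA (app g h - h) := by
    refine ⟨?_, ?_, ?_, ?_, ?_⟩ <;> simp only [Pi.sub_apply, v0, v7, v2, v3, v4, sub_zero]
    · linear_combination hμ
    · linear_combination h7
    · exact p2
    · exact p3
    · exact p4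
  rw [octTr] at ht
  have hy : InA (x - x 0 • h) := by
    refine ⟨?_, ?_, ?_, ?_, ?_⟩ <;>
      simp only [Pi.sub_apply, Pi.smul_apply, smul_eq_mul, v0, v7, v2, v3, v4, h4, hx2, hx3, mul_zero, mul_one,
        sub_self]
    linear_combination ht
  have key : app g x - x = (app g (x - x 0 • h) - (x - x 0 • h)) + x 0 • (app g h - h) := by
    rw [app_sub, app_smul]; module
  rw [key]
  obtain ⟨a0, a7, a2, a3, a4⟩ := hA
  obtain ⟨b0, b7, b2, b3, b4⟩ := hy
  obtain ⟨c0, c7, c2, c3, c4⟩ := inA_app hg hn (x := x - x 0 • h) ⟨b0, b7, b2, b3, b4⟩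
  refine ⟨?_, ?_, ?_, ?_, ?_⟩ <;>
    simp only [Pi.add_apply, Pi.sub_apply, Pi.smul_apply, smul_eq_mul] at a0 a7 a2 a3 a4 b0 b7 b2 b3 b4 ⊢
  · rw [c0, b0, a0]; ring
  · rw [c7, b7, a7]; ring
  · rw [c2, b2, a2]; ring
  · rw [c3, b3, a3]; ring
  · rw [c4, b4, a4]; ring

theorem quad_perp (hg : g ∈ Lie.G2 F) (hn : app g n0 = n0) {x : Fin 8 → F}
    (ht : octTr x = 0) (h4 : x 4 = 0) :
    octTr (quad g x) = 0 ∧ quad g x 4 = 0 ∧ quad g x 2 = 0 ∧ quad g x 3 = 0 := by
  have hB : ∀ y, InA y → octPolar F (quad g x) y = 0 := by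
    intro y hy
    obtain ⟨y', hy', rfl⟩ : ∃ y', InA y' ∧ app g (app g y') = y := by
      refine ⟨app g⁻¹ (app g⁻¹ y), inA_symm hg hn (inA_symm hg hn hy), ?_⟩
      rw [← app_mul g g⁻¹ (app g⁻¹ y), mul_inv_cancel, app_one, ← app_mul, mul_inv_cancel, app_one]
    obtain ⟨c, hc⟩ := quad_inA hg hn hy'
    have e : octPolar F (quad g x) (app g (app g y')) = octPolar F x (quad g y') := by
      rw [quad_apply, quad_apply]
      simp only [map_add, map_sub, map_smul, LinearMap.add_apply, LinearMap.sub_apply, LinearMap.smul_apply,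
        octPolar_app hg]
      ring
    rw [e, hc, map_smul, polar_eq]
    rw [octTr] at ht
    simp [n0, mk, h4]
  refine ⟨?_, ?_, ?_, ?_⟩
  · rw [quad_apply, octTr]
    have h1 := (octQ_app hg x).1
    have h2 := (octQ_app hg (app g x)).1
    rw [octTr] at ht
    simp only [octTr] at h1 h2
    simp only [Pi.add_apply, Pi.sub_apply, Pi.smul_apply, smul_eq_mul]
    linear_combination h2 + (1 - trA g) * h1 + (2 - trA g) * ht
  · have := hB n0 ((inA_iff _).2 ⟨by ext i; fin_cases i <;> simp [zornMul, n0, mk, dot3, cross3, Pi.single_apply],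
      by simp [n0, octTr_mk]⟩)
    simpa [polar_eq, n0, mk] using this
  · simpa [polar_eq, e5, Pi.single_apply] using hB e5 inA_e5
  · simpa [polar_eq, e6, Pi.single_apply] using hB e6 inA_e6

theorem step_top (hg : g ∈ Lie.G2 F) (hn : app g n0 = n0) (x : Fin 8 → F) :
    octTr (app g x - x) = 0 ∧ (app g x - x) 4 = 0 := by
  constructor
  · have h1 := (octQ_app hg x).1
    simp only [octTr] at h1 ⊢
    simp only [Pi.sub_apply]
    linear_combination h1
  · have h : octPolar F (app g x) (app g n0) = octPolar F x n0 := octPolar_app hg _ _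
    rw [hn] at h
    simp [polar_eq, n0, mk] at h
    simp only [Pi.sub_apply]
    linear_combination h

/-- The equation. -/
theorem stab_equation (hg : g ∈ Lie.G2 F) (hn : app g n0 = n0) (h2 : (2 : F) ≠ 0) :
    (lin g - 1) ^ 3 * quad g ^ 2 = 0 := by
  have hc : Commute (lin g - 1) (quad g) := by
    rw [quad]
    refine Commute.add_right (Commute.sub_right ?_ ?_) (Commute.one_right _)
    · exact ((Commute.refl _).sub_left (Commute.one_left _)).mul_right ((Commute.refl _).sub_left (Commute.one_left _))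
    · exact ((Commute.refl (lin g)).sub_left (Commute.one_left _)).smul_right _
  have e : (lin g - 1) ^ 3 * quad g ^ 2 = (lin g - 1) * quad g * (lin g - 1) * quad g * (lin g - 1) := by
    simp only [pow_succ, pow_zero, one_mul, mul_assoc, hc.eq, hc.left_comm]
  rw [e]
  refine LinearMap.ext fun x => ?_
  simp only [Module.End.mul_apply, LinearMap.sub_apply, Module.End.one_apply, LinearMap.zero_apply, lin_apply]
  obtain ⟨t1, f1⟩ := step_top hg hn x
  obtain ⟨t2, f2, s2, s3⟩ := quad_perp hg hn t1 f1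
  obtain ⟨c, hc'⟩ := quad_inA hg hn (step_perp hg hn h2 t2 f2 s2 s3)
  rw [hc', app_smul, hn, sub_self]

/-- The sharper equation when the trace is minus two. -/
theorem stab_equation_neg (hg : g ∈ Lie.G2 F) (hn : app g n0 = n0) (h2 : (2 : F) ≠ 0) (ht : trA g = -2) :
    (lin g * lin g - 1) ^ 3 = 0 := by
  obtain ⟨T, hT⟩ : ∃ T : Module.End F (Fin 8 → F), T = (lin g * lin g - 1) ^ 3 := ⟨_, rfl⟩
  have hquad : quad g = (lin g + 1) ^ 2 := by
    rw [quad, ht, sq, show (-2 : F) • lin g = -(lin g + lin g) by module]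
    noncomm_ring
  -- the range is one-dimensional
  obtain ⟨w, hw⟩ : ∃ w : Fin 8 → F, ∀ x, ∃ c : F, T x = c • w := by
    obtain ⟨h0, h7, h2', h3, h4⟩ := inA_app hg hn (inA_e5 (F := F))
    obtain ⟨k0, k7, k2, k3, k4⟩ := inA_app hg hn (inA_e6 (F := F))
    have hd := det_one hg hn
    have htr : app g e5 5 + app g e6 6 = -2 := ht
    obtain ⟨u, hu, hspan⟩ : ∃ u, InA u ∧ ∀ y, InA y → ∃ c d : F, app g y + y = c • n0 + d • u := by
      have hA : ∀ y : Fin 8 → F, InA y → InA (app g y + y) := fun y hy => by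
        obtain ⟨a0, a7, a2, a3, a4⟩ := inA_app hg hn hy
        obtain ⟨b0, b7, b2, b3, b4⟩ := hy
        exact ⟨by simp [a0, b0], by simp [a7, b7], by simp [a2, b2], by simp [a3, b3], by simp [a4, b4]⟩
      have hcoord : ∀ y : Fin 8 → F, InA y → app g y + y =
          (app g y + y) 1 • n0 + (app g y + y) 5 • e5 + (app g y + y) 6 • e6 :=
        fun y hy => inA_decomp (hA y hy)
      by_cases h5 : app g e5 5 + 1 = 0
      · by_cases h6 : app g e5 6 = 0
        · refine ⟨app g e6 + e6, hA _ inA_e6, fun y hy => ⟨(app g y + y) 1 - y 6 * (app g e6 + e6 : Fin 8 → F) 1, y 6, ?_⟩⟩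
          obtain ⟨c5, c6⟩ := coord_app hg hn hy
          rw [hcoord y hy, hcoord e6 inA_e6]
          ext i
          simp only [Pi.add_apply, Pi.smul_apply, smul_eq_mul]
          fin_cases i <;> simp [n0, e5_apply, e6_apply, mk, Pi.single_apply]
          · rw [c5]; linear_combination (y 5) * h5
          · rw [c6, h6]; ring
        · have : app g e6 5 * app g e5 6 = 0 := by
            linear_combination -(1 : F) * hd + (app g e6 6) * h5 - htr + h5
          have h65 : app g e6 5 = 0 := (mul_eq_zero.1 this).resolve_right h6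
          refine ⟨app g e5 + e5, hA _ inA_e5,
            fun y hy => ⟨(app g y + y) 1 - y 5 * (app g e5 + e5 : Fin 8 → F) 1, y 5, ?_⟩⟩
          obtain ⟨c5, c6⟩ := coord_app hg hn hy
          rw [hcoord y hy, hcoord e5 inA_e5]
          ext i
          simp only [Pi.add_apply, Pi.smul_apply, smul_eq_mul]
          fin_cases i <;> simp [n0, e5_apply, e6_apply, mk, Pi.single_apply]
          · rw [c5, h65]; ring
          · rw [c6]; linear_combination (y 6) * htr - (y 6) * h5
      · refine ⟨app g e5 + e5, hA _ inA_e5, fun y hy => ?_⟩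
        obtain ⟨c5, c6⟩ := coord_app hg hn hy
        refine ⟨(app g y + y) 1 - (y 5 + y 6 * (app g e6 5 / (app g e5 5 + 1))) * (app g e5 + e5 : Fin 8 → F) 1,
          y 5 + y 6 * (app g e6 5 / (app g e5 5 + 1)), ?_⟩
        rw [hcoord y hy, hcoord e5 inA_e5]
        ext i
        simp only [Pi.add_apply, Pi.smul_apply, smul_eq_mul]
        fin_cases i <;> simp [n0, e5_apply, e6_apply, mk, Pi.single_apply]
        · rw [c5]; field_simp; ring
        · rw [c6]; field_simp
          linear_combination (y 6) * hd + (y 6) * htr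
    refine ⟨app g u - u, fun x => ?_⟩
    obtain ⟨t1, f1⟩ := step_top hg hn x
    obtain ⟨t2, f2, s2, s3⟩ := quad_perp hg hn t1 f1
    obtain ⟨c, d, hcd⟩ := hspan _ (step_perp hg hn h2 t2 f2 s2 s3)
    refine ⟨d, ?_⟩
    have e : T = (lin g - 1) * (lin g + 1) * (lin g - 1) * quad g * (lin g - 1) := by
      rw [hT, hquad]
      simp only [pow_succ, pow_zero, one_mul, mul_add, add_mul, mul_sub, sub_mul, mul_one, mul_assoc]
      abel
    rw [e]
    simp only [Module.End.mul_apply, LinearMap.sub_apply, LinearMap.add_apply, Module.End.one_apply, lin_apply]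
    rw [hcd, app_add, app_smul, app_smul, hn]
    module
  -- and the form is alternating
  have hfix : ∀ x, app g (app g (T x)) = T x := by
    have h4 : (lin g - 1) ^ 3 * quad g ^ 2 = 0 := stab_equation hg hn h2
    have e : (lin g * lin g - 1) * T = (lin g + 1) ^ 0 * ((lin g - 1) * ((lin g - 1) ^ 3 * quad g ^ 2)) := by
      rw [hT, hquad, pow_zero, one_mul]
      simp only [pow_succ, pow_zero, one_mul, mul_add, add_mul, mul_sub, sub_mul, mul_one, mul_assoc]
      abel
    intro x
    rw [h4, mul_zero, mul_zero] at e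
    have := LinearMap.congr_fun e x
    simpa [sub_eq_zero, lin_apply] using this
  have hskew : ∀ x, octPolar F (T x) x = 0 := by
    intro x
    obtain ⟨y, hy⟩ : ∃ y, app g (app g (app g (app g (app g (app g y))))) = x := by
      obtain ⟨a, rfl⟩ := app_surj g x; obtain ⟨b, rfl⟩ := app_surj g a; obtain ⟨c, rfl⟩ := app_surj g b
      obtain ⟨d, rfl⟩ := app_surj g c; obtain ⟨e, rfl⟩ := app_surj g d; obtain ⟨f, rfl⟩ := app_surj g e
      exact ⟨f, rfl⟩
    have hTy : ∀ z, T z = app g (app g (app g (app g (app g (app g z))))) - (3 : F) • app g (app g (app g (app g z)))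
        + (3 : F) • app g (app g z) - z := by
      intro z
      rw [hT]
      simp only [pow_succ, pow_zero, one_mul, Module.End.mul_apply, LinearMap.sub_apply, Module.End.one_apply,
        lin_apply, app_sub]
      module
    have hTx : T x = app g (app g (app g (app g (app g (app g (T y)))))) := by
      rw [← hy, hTy, hTy]
      simp only [app_sub, app_add, app_smul]
    rw [hTx, ← hy]
    simp only [octPolar_app hg]
    have h1 : octPolar F (T y) y = -octPolar F y (T y) := by
      have h2 : octPolar F (T y) (app g (app g (app g (app g (app g (app g y)))))) =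
          -octPolar F y (T y) := by
        rw [hTy]
        simp only [map_add, map_sub, map_smul, LinearMap.add_apply, LinearMap.sub_apply, LinearMap.smul_apply,
          octPolar_app hg, smul_eq_mul]
        ring
      have h3 : app g (app g (app g (app g (app g (app g (T y)))))) = T y := by rw [hfix, hfix, hfix]
      calc octPolar F (T y) y = octPolar F (app g (app g (app g (app g (app g (app g (T y)))))))
            (app g (app g (app g (app g (app g (app g y)))))) := by simp only [octPolar_app hg]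
        _ = _ := by rw [h3, h2]
    have hsym : octPolar F y (T y) = octPolar F (T y) y := by
      rw [octPolar_apply, octPolar_apply, add_comm y]; ring
    rw [hsym] at h1
    exact (mul_eq_zero.1 (show (2 : F) * octPolar F (T y) y = 0 by linear_combination h1)).resolve_left h2
  rw [← hT]
  by_contra hne
  obtain ⟨x1, hx1⟩ : ∃ x1, T x1 ≠ 0 := by
    by_contra h
    push Not at h
    exact hne (LinearMap.ext h)
  obtain ⟨c1, hc1⟩ := hw x1
  have hw0 : w ≠ 0 := fun h => hx1 (by rw [hc1, h, smul_zero])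
  have hc10 : c1 ≠ 0 := fun h => hx1 (by rw [hc1, h, zero_smul])
  obtain ⟨x2, hx2⟩ : ∃ x2, octPolar F w x2 ≠ 0 := by
    by_contra h
    push Not at h
    exact hw0 (octPolar_nondeg.1 w h)
  obtain ⟨c2, hc2⟩ := hw x2
  have a1 := hskew x1
  have a2 := hskew x2
  have a3 := hskew (x1 + x2)
  rw [hc1, map_smul, LinearMap.smul_apply, smul_eq_mul] at a1
  rw [hc2, map_smul, LinearMap.smul_apply, smul_eq_mul] at a2
  rw [map_add T, hc1, hc2, ← add_smul, map_smul, LinearMap.smul_apply, smul_eq_mul, map_add] at a3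
  have b1 : octPolar F w x1 = 0 := (mul_eq_zero.1 a1).resolve_left hc10
  have b2 : c2 = 0 := (mul_eq_zero.1 a2).resolve_right hx2
  rw [b1, b2] at a3
  simp [hc10, hx2] at a3

end Stab

end Cfsg.Agent.G2OrdersOdd
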