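import Cfsg.Agent.Lib.G2OrdersOdd.Descent
import Cfsg.Agent.Lib.G2OrdersOdd.Null
import Cfsg.Agent.Lib.G2OrdersOdd.Fixed

/-! Exponents of the elements of `G₂(q)`, `q` odd. -/

set_option autoImplicit false

namespace Cfsg.Agent.G2OrdersOdd

open Matrix Cfsg.Lie G2Oct UnionTwoClasses Polynomial
open G2Orders (gmap gmap_mem gmap_injective app_gmap gmap_slHom trace_conj cof_cof cof_one)

variable {F : Type*} [Field F] {K : Type*} [Field K]

/-- All exponents. -/
def expListAll (p q : ℕ) : List ℕ := expList p q ++ if p = 3 ∨ p = 5 then [p ^ 2] else []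

theorem mem_all {p q n : ℕ} (h : n ∈ expList p q) : n ∈ expListAll p q := List.mem_append_left _ h

/-- Relation between the invariants of a fixed element and the Frobenius. -/
theorem rel_of_fixed (φ : F →+* K) (σ : K →+* K) (hσφ : ∀ x, σ (φ x) = φ x) {g : GL (Fin 8) F}
    {x : Fin 8 → F} {ρ c : K} (hc : σ c = c) (hc2 : c + c = 1) (hρ : σ ρ = ρ ∨ σ ρ = -ρ)
    {r : GL (Fin 8) K} (hr : r ∈ Lie.G2 K) (hre : app r (c • one8 + ρ • φ ∘ x) = idem0)
    {A : Matrix.SpecialLinearGroup (Fin 3) K} (hA : slHom A = r * gmap φ g * r⁻¹) :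
    (σ (A : Matrix (Fin 3) (Fin 3) K).trace = (A : Matrix (Fin 3) (Fin 3) K).trace ∧
      σ (cof (A : Matrix (Fin 3) (Fin 3) K)).trace = (cof (A : Matrix (Fin 3) (Fin 3) K)).trace) ∨
    (σ (A : Matrix (Fin 3) (Fin 3) K).trace = (cof (A : Matrix (Fin 3) (Fin 3) K)).trace ∧
      σ (cof (A : Matrix (Fin 3) (Fin 3) K)).trace = (A : Matrix (Fin 3) (Fin 3) K).trace) := by
  have hh : gmap σ (gmap φ g) = gmap φ g := by
    refine Units.ext (Matrix.ext fun i j => ?_)
    exact hσφ _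
  have hrσ : gmap σ r ∈ Lie.G2 K := gmap_mem σ hr
  have hσ0 : σ ∘ (idem0 : Fin 8 → K) = idem0 := by
    ext i; fin_cases i <;> simp [idem0, mk]
  have hσe : app (gmap σ r) (c • one8 + σ ρ • φ ∘ x) = idem0 := by
    have := app_gmap σ r (c • one8 + ρ • φ ∘ x)
    rw [hre, hσ0] at this
    rw [← this]
    congr 1
    funext i
    simp only [Pi.add_apply, Pi.smul_apply, smul_eq_mul, Function.comp_apply]
    fin_cases i <;> simp [one8, mk, hσφ, hc]
  have hconj : slHom (Matrix.SpecialLinearGroup.map σ A) =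
      (gmap σ r * r⁻¹) * slHom A * (gmap σ r * r⁻¹)⁻¹ := by
    rw [← gmap_slHom, hA, map_mul, map_mul, map_inv, hh]
    group
  obtain ⟨u, hu⟩ : ∃ u, u = gmap σ r * r⁻¹ := ⟨_, rfl⟩
  rw [← hu] at hconj
  have humem : u ∈ Lie.G2 K := hu ▸ mul_mem hrσ (inv_mem hr)
  have hu0 : app u idem0 = app (gmap σ r) (c • one8 + ρ • φ ∘ x) := by
    rw [hu, app_mul]
    congr 1
    refine app_inj r ?_
    rw [← app_mul, mul_inv_cancel, app_one, hre]
  have tr_map : (Matrix.SpecialLinearGroup.map σ A : Matrix (Fin 3) (Fin 3) K).trace =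
      σ (A : Matrix (Fin 3) (Fin 3) K).trace := by
    simp [Matrix.trace, Fin.sum_univ_three]
  have trc_map : (cof (Matrix.SpecialLinearGroup.map σ A : Matrix (Fin 3) (Fin 3) K)).trace =
      σ (cof (A : Matrix (Fin 3) (Fin 3) K)).trace := by
    simp [Matrix.trace, cof, Fin.sum_univ_three, map_sub, map_mul]
  have trB : ∀ B : Matrix.SpecialLinearGroup (Fin 3) K,
      ((B * A * B⁻¹ : Matrix.SpecialLinearGroup (Fin 3) K) : Matrix (Fin 3) (Fin 3) K).trace =
        (A : Matrix (Fin 3) (Fin 3) K).trace ∧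
      (cof ((B * A * B⁻¹ : Matrix.SpecialLinearGroup (Fin 3) K) : Matrix (Fin 3) (Fin 3) K)).trace =
        (cof (A : Matrix (Fin 3) (Fin 3) K)).trace := by
    intro B
    have h1 : (B⁻¹).1 * B.1 = 1 := congrArg Subtype.val (inv_mul_cancel B)
    show (B.1 * A.1 * (B⁻¹).1).trace = A.1.trace ∧ (cof (B.1 * A.1 * (B⁻¹).1)).trace = (cof A.1).trace
    rw [cof_mul, cof_mul]
    exact ⟨trace_conj h1, trace_conj (by rw [← cof_mul, h1, cof_one])⟩
  rcases hρ with hρ | hρ
  · left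
    rw [hρ] at hσe
    rw [hσe] at hu0
    obtain ⟨B, hB⟩ := stab_slHom humem hu0
    rw [← hB, ← map_inv, ← map_mul, ← map_mul] at hconj
    have e := slHom_injective hconj
    rw [← tr_map, ← trc_map, e]
    exact trB B
  · right
    have h1 : c • (one8 : Fin 8 → K) + ρ • φ ∘ x = one8 - (c • one8 + σ ρ • φ ∘ x) := by
      rw [hρ]
      linear_combination (norm := module) congrArg (· • (one8 : Fin 8 → K)) hc2
    rw [h1, app_sub, hσe, app_one8 hrσ] at hu0
    have hwu : app (wG * u) idem0 = idem0 := by rw [app_mul, hu0, wG_idem]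
    obtain ⟨B, hB⟩ := stab_slHom (mul_mem wG_mem humem) hwu
    have huw : u = wG * slHom B := by rw [hB, ← mul_assoc, wG_sq, one_mul]
    have hwinv : (wG : GL (Fin 8) K)⁻¹ = wG := inv_eq_of_mul_eq_one_right wG_sq
    have h2 : slHom (Matrix.SpecialLinearGroup.map σ A) = slHom (cofSL (B * A * B⁻¹)) := by
      rw [hconj, huw, ← wG_slHom, map_mul, map_mul, map_inv, _root_.mul_inv_rev, hwinv]
      group
    have e := slHom_injective h2
    rw [← tr_map, ← trc_map, e]
    refine ⟨(trB B).2, ?_⟩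
    show (cof (cof _)).trace = _
    rw [cof_cof, (B * A * B⁻¹).2, one_smul]
    exact (trB B).1

theorem lin_pow (g : GL (Fin 8) F) : ∀ n : ℕ, lin (g ^ n) = lin g ^ n
  | 0 => LinearMap.ext fun x => by rw [pow_zero, lin_apply, app_one, pow_zero]; rfl
  | n + 1 => LinearMap.ext fun x => by
    rw [pow_succ, pow_succ, Module.End.mul_apply, lin_apply, app_mul, ← lin_pow g n, lin_apply, lin_apply]

theorem pow_eq_one_of_lin {g : GL (Fin 8) F} {n : ℕ} (h : lin g ^ n = 1) : g ^ n = 1 :=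
  gl_ext fun x => by rw [← lin_apply, lin_pow, h, app_one]; rfl

/-- The exponents in the stabiliser of the null vector. -/
theorem exists_exp_null (p : ℕ) [Fact p.Prime] [CharP F p] [Fintype F] (hp : 3 ≤ p) {a q : ℕ} (hq : q = p ^ a)
    (hF : Fintype.card F = q) (hodd : Odd q) {g : GL (Fin 8) F} (hg : g ∈ Lie.G2 F) (hn : app g n0 = n0) :
    ∃ n ∈ expListAll p q, g ^ n = 1 := by
  classical
  have h2 : (2 : F) ≠ 0 := Ring.two_ne_zero (by rw [ringChar.eq F p]; omega)
  obtain ⟨t, htdef⟩ : ∃ t, t = trA g := ⟨_, rfl⟩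
  have hq1 : 1 ≤ q := hq ▸ Nat.one_le_pow _ _ (Fact.out : p.Prime).pos
  by_cases htm : t = -2
  · refine ⟨p * (q - 1), mem_all (by simp [expList]), pow_eq_one_of_lin ?_⟩
    have h := stab_equation_neg hg hn h2 (htdef ▸ htm)
    have hf : Polynomial.aeval (lin g) ((X ^ 2 - 1) ^ 3 : F[X]) = 0 := by
      rw [map_pow, map_sub, map_pow, map_one, aeval_X, sq]; exact h
    refine pow_of_dvd hf ?_
    obtain ⟨m, hm⟩ := hodd
    rw [X_pow_mul_sub p]
    refine (pow_dvd_pow _ hp).trans (pow_dvd_pow_of_dvd ?_ p)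
    rw [show q - 1 = 2 * m by omega, pow_mul]
    exact sub_one_dvd_pow_sub_one _ _
  have heq : Polynomial.aeval (lin g) ((X - 1) ^ 3 * (X ^ 2 - C t * X + 1) ^ 2 : F[X]) = 0 := by
    rw [map_mul, map_pow, map_pow, map_sub, map_one, aeval_X, map_add, map_sub, map_mul, map_pow, aeval_X,
      aeval_C, map_one, sq (lin g), ← Algebra.smul_def, htdef]
    exact stab_equation hg hn h2
  by_cases htp : t = 2
  · have hf : Polynomial.aeval (lin g) ((X - 1) ^ 7 : F[X]) = 0 := by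
      rw [← heq, htp, map_ofNat]; congr 1; ring
    by_cases hp5 : p = 3 ∨ p = 5
    · refine ⟨p ^ 2, List.mem_append_right _ (by simp [hp5]), pow_eq_one_of_lin (pow_of_dvd hf ?_)⟩
      have e : (X ^ p ^ 2 - 1 : F[X]) = (X - 1) ^ p ^ 2 := by rw [sub_pow_char_pow, one_pow]
      rw [e]
      exact pow_dvd_pow _ (by nlinarith)
    · have hp7 : 7 ≤ p := by
        have := (Fact.out : p.Prime)
        by_contra hlt
        interval_cases p <;> first | omega | (norm_num at this)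
      refine ⟨p * (q - 1), mem_all (by simp [expList]), pow_eq_one_of_lin (pow_of_dvd hf ?_)⟩
      rw [X_pow_mul_sub p]
      exact (pow_dvd_pow _ hp7).trans (pow_dvd_pow_of_dvd (sub_one_dvd_pow_sub_one _ _) p)
  -- distinct eigenvalues
  let L := AlgebraicClosure F
  haveI : CharP L p := charP_of_injective_algebraMap (algebraMap F L).injective p
  obtain ⟨ι, hι⟩ : ∃ ι : F →+* L, ι = algebraMap F L := ⟨_, rfl⟩
  obtain ⟨l, hl⟩ := IsAlgClosed.exists_root (X ^ 2 + C (-ι t) * X + C 1 : L[X])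
    (by
      have h : (X ^ 2 + C (-ι t) * X + C 1 : L[X]).degree = 2 := by compute_degree!
      rw [h]; decide)
  simp [IsRoot] at hl
  have hl0 : l ≠ 0 := fun h0 => by simp [h0] at hl
  have hsum : ι t = l + l⁻¹ := by
    apply mul_right_cancel₀ hl0
    rw [add_mul, inv_mul_cancel₀ hl0]
    linear_combination -hl
  have hl1 : l ≠ 1 := fun h => htp (ι.injective (by rw [hsum, h, map_ofNat, inv_one]; norm_num))
  have hlm : l ≠ -1 := fun h => htm (ι.injective (by rw [hsum, h, map_neg, map_ofNat, inv_neg, inv_one]; norm_num))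
  have hll : l ≠ l⁻¹ := fun h => by
    have h1 : l * l = 1 := by nth_rewrite 2 [h]; exact mul_inv_cancel₀ hl0
    rcases mul_self_eq_one_iff.1 h1 with h | h
    · exact hl1 h
    · exact hlm h
  obtain ⟨N, hN, hN1⟩ : ∃ N, p * N ∈ expList p q ∧ l ^ N = 1 := by
    have hroot : l ^ q = l ∨ (l ^ q)⁻¹ = l := by
      obtain ⟨τ, hτ⟩ : ∃ τ : L →+* L, ∀ x, τ x = x ^ q :=
        ⟨iterateFrobenius L p a, fun x => by rw [iterateFrobenius_def, hq]⟩
      have h1 := congrArg τ hsum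
      rw [hτ, ← map_pow, ← hF, FiniteField.pow_card, hsum, map_add, map_inv₀, hτ] at h1
      have hy : l ^ q ≠ 0 := pow_ne_zero _ hl0
      have h3 : (l ^ q - l) * (l ^ q * l - 1) = 0 := by
        linear_combination -(l ^ q * l) * h1 + l ^ q * mul_inv_cancel₀ hl0 - l * mul_inv_cancel₀ hy
      rcases mul_eq_zero.1 h3 with h | h
      · exact Or.inl (sub_eq_zero.1 h)
      · exact Or.inr (inv_eq_of_mul_eq_one_right (sub_eq_zero.1 h))
    rcases fixed_pm hq1 hl0 hroot with h | h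
    · exact ⟨q - 1, by simp [expList], h⟩
    · exact ⟨q + 1, by simp [expList], h⟩
  refine ⟨p * N, mem_all hN, pow_eq_one_of_lin (pow_of_dvd heq ?_)⟩
  rw [← Polynomial.map_dvd_map' ι]
  have e : ((X - 1) ^ 3 * (X ^ 2 - C t * X + 1) ^ 2 : F[X]).map ι =
      (X - C 1) ^ 3 * ((X - C l) ^ 2 * (X - C l⁻¹) ^ 2) := by
    simp only [Polynomial.map_mul, Polynomial.map_pow, Polynomial.map_sub, Polynomial.map_add,
      Polynomial.map_one, Polynomial.map_X, Polynomial.map_C, hsum, C_add, ← mul_pow, C_1]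
    congr 2
    have : C l * C l⁻¹ = (1 : L[X]) := by rw [← C_mul, mul_inv_cancel₀ hl0, C_1]
    linear_combination -this
  rw [e, Polynomial.map_sub, Polynomial.map_pow, Polynomial.map_X, Polynomial.map_one]
  refine IsCoprime.mul_dvd
    (IsCoprime.mul_right (coprime_root (Ne.symm hl1)).pow (coprime_root (fun h => hl1 (inv_eq_one.1 h.symm))).pow)
    (dvd_root_pow p (one_pow N) hp) ?_
  exact IsCoprime.mul_dvd (coprime_root hll).pow (dvd_root_pow p hN1 (by omega))
    (dvd_root_pow p (by rw [inv_pow, hN1, inv_one]) (by omega))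

/-- Every element of `G₂(q)` is killed by one of the listed exponents. -/
theorem exists_exp_G2 [Fintype F] (p a : ℕ) [Fact p.Prime] [CharP F p] (hp : 3 ≤ p)
    (hF : Fintype.card F = p ^ a) {g : GL (Fin 8) F} (hg : g ∈ Lie.G2 F) :
    ∃ n ∈ expListAll p (p ^ a), g ^ n = 1 := by
  have h2 : (2 : F) ≠ 0 := Ring.two_ne_zero (by rw [ringChar.eq F p]; omega)
  have hF3 : 3 ≤ Fintype.card F := by
    obtain ⟨n, hn, hc⟩ := FiniteField.card F p
    rw [hc]; exact hp.trans (Nat.le_self_pow (by simp) p)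
  obtain ⟨v, hv0, hvt, hgv⟩ := exists_fixed hF3 h2 hg
  by_cases hQ : octQ v = 0
  · obtain ⟨h, hh, he⟩ := exists_to_null hv0 hvt hQ
    have hn : app (h * g * h⁻¹) n0 = n0 := by
      conv_lhs => rw [← he, app_mul, app_mul, ← app_mul h⁻¹, inv_mul_cancel, app_one, hgv]
      exact he
    obtain ⟨n, hn', hpow⟩ := exists_exp_null p hp rfl hF
      (((Fact.out : p.Prime).odd_of_ne_two (by omega)).pow) (mul_mem (mul_mem hh hg) (inv_mem hh)) hn
    exact ⟨n, hn', conj_eq_one_iff.1 (by rw [← conj_pow]; exact hpow)⟩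
  obtain ⟨K, _, _, _, φ, σ, -, hσ, -, hσφ, -, hroot, -, -⟩ := exists_quad p a (by omega) hF
  obtain ⟨ρ, hρ, hρσ⟩ := hroot (-1 / (4 * octQ v))
  obtain ⟨k, hk⟩ : ∃ k, k = gmap φ g := ⟨_, rfl⟩
  have hkm : k ∈ Lie.G2 K := hk ▸ gmap_mem φ hg
  obtain ⟨c, hc⟩ : ∃ c : K, c = φ (1 / 2) := ⟨_, rfl⟩
  have hc2 : c + c = 1 := by
    rw [hc, ← map_add, show (1 : F) / 2 + 1 / 2 = 1 by field_simp; norm_num, map_one]
  have hcσ : σ c = c := by rw [hc, hσφ]
  obtain ⟨e, he⟩ : ∃ e, e = c • (one8 : Fin 8 → K) + ρ • φ ∘ v := ⟨_, rfl⟩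
  have hv07 : φ (v 0) + φ (v 7) = 0 := by
    rw [← map_add]; exact (congrArg φ hvt).trans φ.map_zero
  have het : octTr e = 1 := by
    rw [he, octTr]
    simp [one8, mk]
    linear_combination hc2 + ρ * hv07
  have h4 : ρ ^ 2 * φ (4 * octQ v) = -1 := by
    rw [hρ, ← map_mul, div_mul_cancel₀ _ (mul_ne_zero
      (by rw [show (4 : F) = 2 * 2 by norm_num]; exact mul_ne_zero h2 h2) hQ), map_neg, map_one]
  have heq : octQ e = 0 := by
    have h4' : (4 : K) ≠ 0 := by
      rw [← map_ofNat φ 4]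
      exact fun h => mul_ne_zero h2 h2 (φ.injective (by rw [map_zero]; rw [show (2 : F) * 2 = 4 by norm_num]; exact h))
    refine (mul_eq_zero.1 (show (4 : K) * octQ e = 0 from ?_)).resolve_left h4'
    rw [he, octQ, dot3]
    simp only [octQ, dot3, map_sub, map_add, map_mul, map_ofNat] at h4
    simp [one8, mk, zA, zB, -mul_eq_zero] at h4 ⊢
    linear_combination h4 + 4 * c * ρ * hv07 + (2 * c + 1) * hc2
  have hidem : e ∈ idemSet K := by
    refine ⟨?_, fun h0 => ?_, fun h0 => ?_⟩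
    · rw [mulVec_sq, het, heq, one_smul, zero_smul, sub_zero]
    · rw [h0] at het; simp [octTr] at het
    · rw [h0] at heq; simp [octQ, one8, mk, dot3, zA, zB] at heq
  obtain ⟨r, hr, hre⟩ := reach_all hidem
  have hke : app (r * k * r⁻¹) idem0 = idem0 := by
    rw [app_mul, app_mul, ← hre, ← app_mul r⁻¹, inv_mul_cancel, app_one]
    congr 1
    rw [hk, he, app_add, app_smul, app_smul, app_gmap, hgv, app_one8 (gmap_mem φ hg)]
  obtain ⟨A, hA⟩ := stab_slHom (mul_mem (mul_mem hr hkm) (inv_mem hr)) hke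
  have key : ∀ b : Bool, (if b then ((A : Matrix (Fin 3) (Fin 3) K).trace ^ p ^ a = (A : Matrix (Fin 3) (Fin 3) K).trace ∧
        (cof (A : Matrix (Fin 3) (Fin 3) K)).trace ^ p ^ a = (cof (A : Matrix (Fin 3) (Fin 3) K)).trace)
      else ((A : Matrix (Fin 3) (Fin 3) K).trace ^ p ^ a = (cof (A : Matrix (Fin 3) (Fin 3) K)).trace ∧
        (cof (A : Matrix (Fin 3) (Fin 3) K)).trace ^ p ^ a = (A : Matrix (Fin 3) (Fin 3) K).trace)) →
      ∃ n ∈ expListAll p (p ^ a), g ^ n = 1 := by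
    intro b hb
    obtain ⟨n, hn, hAn⟩ := exists_exp_matrix p hp rfl _ A.2 b hb
    have h1 : A ^ n = 1 := Subtype.ext ((Matrix.SpecialLinearGroup.coe_pow A n).trans hAn)
    refine ⟨n, mem_all hn, gmap_injective φ ?_⟩
    rw [map_pow, ← hk, map_one]
    refine conj_eq_one_iff.1 (show r * k ^ n * r⁻¹ = 1 from ?_)
    rw [← conj_pow, ← hA, ← map_pow, h1, map_one]
  rcases rel_of_fixed φ σ hσφ hcσ hc2 hρσ hr (he ▸ hre) (hk ▸ hA) with ⟨h1, h2'⟩ | ⟨h1, h2'⟩
  · exact key true (by simp only [if_true, ← hσ]; exact ⟨h1, h2'⟩)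
  · exact key false (by simp only [Bool.false_eq_true, if_false, ← hσ]; exact ⟨h1, h2'⟩)

end Cfsg.Agent.G2OrdersOdd
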